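import Cfsg.Agent.ClassicalMax.Tensor.Basic

/-!
A subgroup of determinant one containing the stabiliser of a tensor decomposition and a further element contains every
transvection.
-/

set_option autoImplicit false
set_option linter.unusedSectionVars false
set_option linter.style.haveILetI false

namespace Cfsg.Agent.ClassicalMax.Tensor

open Module Matrix

variable {F : Type*} [Field F] [Finite F] {I J : Type} [Fintype I] [Fintype J] [DecidableEq I] [DecidableEq J]
  {X : Subgroup (Matrix I J F ≃ₗ[F] Matrix I J F)}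

theorem vec_zero (u : I → F) : vecMulVec u (0 : J → F) = 0 := by
  ext i j
  simp [vecMulVec_apply]

/-- the overgroup -/
structure Over (X : Subgroup (Matrix I J F ≃ₗ[F] Matrix I J F)) : Prop where
  two : 2 ≤ Fintype.card I
  lt : Fintype.card I < Fintype.card J
  big : Fintype.card I = 2 → 3 ≤ Nat.card F
  det : ∀ g ∈ X, LinearMap.det g.toLinearMap = 1
  le : ∀ g, InN g → LinearMap.det g.toLinearMap = 1 → g ∈ X

namespace Over

theorem right_mem (hX : Over X) {φ c : J → F} (h : c ⬝ᵥ φ = 0) : uni (rightN (I := I) φ c) ∈ X :=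
  hX.le _ (inN_right h) (det_uni (rightN_sq h))

theorem left_mem (hX : Over X) {u ψ : I → F} (h : ψ ⬝ᵥ u = 0) : uni (leftN (J := J) u ψ) ∈ X :=
  hX.le _ (inN_left h) (det_uni (leftN_sq h))

/-- transitivity on the second factors -/
theorem exists_pl_move (hX : Over X) {v w : J → F} (hv : v ≠ 0) (hw : w ≠ 0) :
    ∃ k ∈ X, InN k ∧ (pl (I := I) v).map (k : Matrix I J F →ₗ[F] Matrix I J F) = pl (I := I) w := by
  by_cases hl : w ∈ F ∙ v
  · obtain ⟨t, rfl⟩ := Submodule.mem_span_singleton.1 hl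
    refine ⟨1, one_mem _, ⟨1, 1, fun x => by simp⟩, ?_⟩
    rw [pl_smul (fun e => hw (by rw [e, zero_smul]))]
    exact Submodule.map_id _
  have hv1 : v ∉ F ∙ (w - v) := fun hm => by
    obtain ⟨t, ht⟩ := Submodule.mem_span_singleton.1 hm
    have ht0 : t ≠ 0 := fun e => hv (by rw [← ht, e, zero_smul])
    refine hl (Submodule.mem_span_singleton.2 ⟨t⁻¹ + 1, ?_⟩)
    rw [add_smul, one_smul]
    nth_rw 1 [← ht]
    rw [inv_smul_smul₀ ht0, sub_add_cancel]
  obtain ⟨φ, hφ1, hφ2⟩ := exists_dot hv1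
  have hc : (w - v) ⬝ᵥ φ = 0 := hφ1 _ (Submodule.mem_span_singleton_self _)
  have he : ∀ u : I → F, uni (rightN (I := I) φ (w - v)) (vecMulVec u v) = vecMulVec u w := fun u => by
    rw [right_apply hc, vecMulVec_mulVec, hφ2, MulOpposite.op_one, one_smul, vecMulVec_sub, add_sub_cancel]
  refine ⟨_, hX.right_mem hc, inN_right hc, ?_⟩
  ext x
  constructor
  · rintro ⟨_, ⟨u, rfl⟩, rfl⟩
    exact ⟨u, (he u).symm⟩
  · rintro ⟨u, rfl⟩
    exact ⟨_, vec_mem_pl u v, he u⟩

end Over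

/-- the stabilisers of the pure subspaces preserve the decomposition -/
def StabOK (X : Subgroup (Matrix I J F ≃ₗ[F] Matrix I J F)) : Prop :=
  ∀ h ∈ X, ∀ v : J → F, v ≠ 0 →
    (pl (I := I) v).map (h : Matrix I J F →ₗ[F] Matrix I J F) = pl (I := I) v → InN h

theorem inN_of_maps (hX : Over X) (hS : StabOK X) {g : Matrix I J F ≃ₗ[F] Matrix I J F} (hg : g ∈ X) {w v : J → F}
    (hw : w ≠ 0) (hv : v ≠ 0) (he : (pl (I := I) w).map (g : Matrix I J F →ₗ[F] Matrix I J F) = pl (I := I) v) :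
    InN g := by
  obtain ⟨k, hk, hkN, hke⟩ := hX.exists_pl_move (I := I) hv hw
  have h1 : InN (k * g) := hS _ (mul_mem hk hg) w hw (by
    rw [show ((k * g : Matrix I J F ≃ₗ[F] Matrix I J F) : Matrix I J F →ₗ[F] Matrix I J F) =
      (k : Matrix I J F →ₗ[F] Matrix I J F).comp (g : Matrix I J F →ₗ[F] Matrix I J F) from rfl,
      Submodule.map_comp, he, hke])
  have := hkN.inv.mul h1
  rwa [inv_mul_cancel_left] at this

/-- with small stabilisers there is no further element -/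
theorem inN_of_stabOK (hX : Over X) (hS : StabOK X) {g : Matrix I J F ≃ₗ[F] Matrix I J F} (hg : g ∈ X) : InN g := by
  classical
  haveI : Finite (Matrix I J F) := Module.finite_of_finite F
  haveI : Finite (Matrix I J F ≃ₗ[F] Matrix I J F) :=
    Finite.of_injective (fun g => (g : Matrix I J F → Matrix I J F)) DFunLike.coe_injective
  have h2 := hX.two
  have hlt := hX.lt
  -- a conjugate of a transvection of the second factor is never in the decomposition group
  have hconj : ∀ g ∈ X, ¬ InN g → ∀ (φ v : J → F), φ ≠ 0 → v ≠ 0 → v ⬝ᵥ φ = 0 →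
      g⁻¹ * uni (rightN (I := I) φ v) * g ∈ X ∧ ¬ InN (g⁻¹ * uni (rightN (I := I) φ v) * g) := by
    intro g hg hgN φ v hφ hv h
    refine ⟨mul_mem (mul_mem (inv_mem hg) (hX.right_mem h)) hg, fun hN => hgN ?_⟩
    set T := uni (rightN (I := I) φ v) with hT
    set R := (pl (I := I) v).map (g⁻¹ : Matrix I J F ≃ₗ[F] Matrix I J F).toLinearMap with hRd
    have hR : ∀ x, (g⁻¹ * T * g) x - x ∈ R := fun x => by
      refine ⟨vecMulVec (g x *ᵥ φ) v, vec_mem_pl _ _, ?_⟩
      rw [LinearEquiv.mul_apply, LinearEquiv.mul_apply, hT, right_apply h, map_add, inv_apply, add_sub_cancel_left]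
      rfl
    have hne : g⁻¹ * T * g ≠ 1 := fun e => by
      have eT : T = 1 := by
        rw [show T = g * (g⁻¹ * T * g) * g⁻¹ by group, e]
        group
      obtain ⟨j, hj⟩ := Function.ne_iff.1 hφ
      obtain ⟨k, hk⟩ := Function.ne_iff.1 hv
      obtain ⟨i⟩ : Nonempty I := Fintype.card_pos_iff.1 (by omega)
      have h1 := congrArg (fun k : Matrix I J F ≃ₗ[F] Matrix I J F => k (Matrix.single i j 1)) eT
      simp only [hT, right_apply h, LinearEquiv.coe_one, id_eq, add_eq_left] at h1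
      have h3 := congrFun (congrFun h1 i) k
      simp [vecMulVec_apply, Matrix.single_mulVec] at h3
      exact h3.elim hj hk
    obtain ⟨w, hw, hwR⟩ := hN.range_eq hlt R hR
      (by rw [hRd, LinearEquiv.finrank_map_eq, finrank_pl hv]) hne
    refine inN_of_maps hX hS hg hw hv ?_
    rw [hwR, hRd, ← Submodule.map_comp,
      show (g : Matrix I J F →ₗ[F] Matrix I J F).comp (g⁻¹).toLinearMap = LinearMap.id from
        LinearMap.ext fun z => apply_inv g z, Submodule.map_id]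
  by_contra hgN
  let f : (Matrix I J F ≃ₗ[F] Matrix I J F) × (J → F) × (J → F) → ℕ := fun t =>
    finrank F ((pl (I := I) t.2.1).map (t.1 : Matrix I J F →ₗ[F] Matrix I J F) ⊓ pl (I := I) t.2.2 :
      Submodule F (Matrix I J F))
  let P : Set ((Matrix I J F ≃ₗ[F] Matrix I J F) × (J → F) × (J → F)) :=
    {t | t.1 ∈ X ∧ ¬ InN t.1 ∧ t.2.1 ≠ 0 ∧ t.2.2 ≠ 0}
  -- a positive intersection
  obtain ⟨w₀, hw₀⟩ : ∃ w : J → F, w ≠ 0 := by
    obtain ⟨φ, h0, -⟩ := exists_orth_one (F := F) (K := J) (by omega) 0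
    exact ⟨φ, h0⟩
  obtain ⟨u₀, hu₀⟩ : ∃ u : I → F, u ≠ 0 := by
    obtain ⟨φ, h0, -⟩ := exists_orth_one (F := F) (K := I) h2 0
    exact ⟨φ, h0⟩
  obtain ⟨φ₀, hφ₀, hφ₀e⟩ := exists_orth (Matrix.mulVecLin (g (vecMulVec u₀ w₀))) (by rw [finrank_fintype_fun_eq_card]; exact hlt)
  obtain ⟨v₀, hv₀, hv₀e⟩ := exists_orth_one (F := F) (K := J) (by omega) φ₀
  rw [dotProduct_comm] at hv₀e
  obtain ⟨hg₀X, hg₀N⟩ := hconj g hg hgN φ₀ v₀ hφ₀ hv₀ hv₀e
  have hpos : 0 < f (g⁻¹ * uni (rightN (I := I) φ₀ v₀) * g, w₀, w₀) := by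
    refine Submodule.one_le_finrank_iff.2 fun e => hu₀ ?_
    have hm : vecMulVec u₀ w₀ ∈ (⊥ : Submodule F (Matrix I J F)) := by
      rw [← e]
      refine ⟨⟨_, vec_mem_pl u₀ w₀, ?_⟩, vec_mem_pl u₀ w₀⟩
      show (g⁻¹ * uni (rightN (I := I) φ₀ v₀) * g) (vecMulVec u₀ w₀) = _
      have h0 : g (vecMulVec u₀ w₀) *ᵥ φ₀ = 0 := hφ₀e
      rw [LinearEquiv.mul_apply, LinearEquiv.mul_apply, right_apply hv₀e, h0, zero_vecMulVec, add_zero, inv_apply]
    exact vecMulVec_left_inj hw₀ (by rw [(Submodule.mem_bot F).1 hm, zero_vecMulVec])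
  obtain ⟨⟨h, w, v⟩, ⟨hh, hhN, hw, hv⟩, hmax⟩ :=
    Set.exists_max_image P f P.toFinite ⟨(_, w₀, w₀), hg₀X, hg₀N, hw₀, hw₀⟩
  dsimp only at hh hhN hw hv
  have hd : 0 < f (h, w, v) := hpos.trans_le (hmax (_, w₀, w₀) ⟨hg₀X, hg₀N, hw₀, hw₀⟩)
  set C := (pl (I := I) w).map (h : Matrix I J F →ₗ[F] Matrix I J F) with hC
  obtain ⟨z, hzC, hzv⟩ : ∃ z ∈ C, z ∉ pl (I := I) v := by
    by_contra hc
    push Not at hc
    refine hhN (inN_of_maps hX hS hh hw hv (Submodule.eq_of_le_of_finrank_le hc ?_))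
    rw [LinearEquiv.finrank_map_eq, finrank_pl hw, finrank_pl hv]
  let Uv : Submodule F (I → F) :=
    C.comap ({ toFun := fun u => vecMulVec u v, map_add' := fun a b => add_vecMulVec a b v,
               map_smul' := fun c a => smul_vecMulVec c a v } : (I → F) →ₗ[F] Matrix I J F)
  have hUv : ∀ u, u ∈ Uv ↔ vecMulVec u v ∈ C := fun u => Iff.rfl
  have hUd : finrank F ((I → F) ⧸ Uv) + 1 ≤ Fintype.card I := by
    have h1 := Submodule.finrank_quotient_add_finrank Uv
    rw [finrank_fintype_fun_eq_card] at h1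
    have h3 : 1 ≤ finrank F Uv := Submodule.one_le_finrank_iff.2 fun e => by
      have h4 : (C ⊓ pl (I := I) v : Submodule F (Matrix I J F)) = ⊥ := by
        rw [eq_bot_iff]
        rintro x ⟨hx, u, rfl⟩
        have hu : u ∈ Uv := hx
        rw [e, Submodule.mem_bot] at hu
        rw [hu]
        exact Submodule.mem_bot F |>.2 (zero_vecMulVec v)
      have : f (h, w, v) = 0 := by
        show finrank F (C ⊓ pl (I := I) v : Submodule F (Matrix I J F)) = 0
        rw [h4, finrank_bot]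
      omega
    omega
  let Lz : (J → F) →ₗ[F] F × ((I → F) ⧸ Uv) := (dotProductBilin F F v).prod (Uv.mkQ.comp (Matrix.mulVecLin z))
  obtain ⟨φ, hφ, hφe⟩ := exists_orth Lz
    (by rw [finrank_prod, finrank_self]; omega)
  have hvφ : v ⬝ᵥ φ = 0 := congrArg Prod.fst hφe
  have hzφ : vecMulVec (z *ᵥ φ) v ∈ C := (hUv _).1 ((Submodule.Quotient.mk_eq_zero _).1 (congrArg Prod.snd hφe))
  obtain ⟨hh', hh'N⟩ := hconj h hh hhN φ v hφ hv hvφ
  set T := uni (rightN (I := I) φ v) with hT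
  have h1 := hmax (h⁻¹ * T * h, w, w) ⟨hh', hh'N, hw, hw⟩
  have hlt' : (C ⊓ pl (I := I) v : Submodule F (Matrix I J F)) <
      C.map (T : Matrix I J F →ₗ[F] Matrix I J F) ⊓ C := by
    have hfix : ∀ x ∈ pl (I := I) v, T x = x := by
      rintro _ ⟨u, rfl⟩
      show T (vecMulVec u v) = vecMulVec u v
      rw [hT, right_apply hvφ, vecMulVec_mulVec, hvφ, MulOpposite.op_zero, zero_smul, zero_vecMulVec, add_zero]
    refine lt_of_le_of_ne (fun x hx => ⟨⟨x, hx.1, hfix x hx.2⟩, hx.1⟩) fun e => hzv ?_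
    have hTz : T z ∈ C.map (T : Matrix I J F →ₗ[F] Matrix I J F) ⊓ C :=
      ⟨⟨z, hzC, rfl⟩, by rw [hT, right_apply hvφ]; exact C.add_mem hzC hzφ⟩
    rw [← e] at hTz
    have e2 := T.injective (hfix _ hTz.2)
    exact e2 ▸ hTz.2
  have h3 : f (h⁻¹ * T * h, w, w) = finrank F (C.map (T : Matrix I J F →ₗ[F] Matrix I J F) ⊓ C :
      Submodule F (Matrix I J F)) := by
    show finrank F ((pl (I := I) w).map ((h⁻¹ * T * h : Matrix I J F ≃ₗ[F] Matrix I J F) : Matrix I J F →ₗ[F] Matrix I J F) ⊓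
      pl (I := I) w : Submodule F (Matrix I J F)) = _
    have e : (h : Matrix I J F →ₗ[F] Matrix I J F).comp
        ((h⁻¹ * T * h : Matrix I J F ≃ₗ[F] Matrix I J F) : Matrix I J F →ₗ[F] Matrix I J F) =
        (T : Matrix I J F →ₗ[F] Matrix I J F).comp (h : Matrix I J F →ₗ[F] Matrix I J F) :=
      LinearMap.ext fun x => apply_inv h _
    rw [← LinearEquiv.finrank_map_eq h, Submodule.map_inf _ h.injective, ← Submodule.map_comp, e, Submodule.map_comp]
  rw [h3] at h1
  exact absurd (Submodule.finrank_lt_finrank_of_lt hlt') (not_lt.2 h1)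

/-- the transvection with pure centre and functional given by a pair of vectors -/
def pairF (ψ : I → F) (φ : J → F) : Dual F (Matrix I J F) where
  toFun x := ψ ⬝ᵥ (x *ᵥ φ)
  map_add' x y := by rw [add_mulVec, dotProduct_add]
  map_smul' t x := by rw [smul_mulVec, dotProduct_smul]; rfl

theorem pairF_vec (ψ a : I → F) (φ b : J → F) : pairF ψ φ (vecMulVec a b) = (ψ ⬝ᵥ a) * (b ⬝ᵥ φ) := by
  show ψ ⬝ᵥ (vecMulVec a b *ᵥ φ) = _
  rw [vecMulVec_mulVec, op_smul_eq_smul, dotProduct_smul, smul_eq_mul, mul_comm]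

/-- the maps `L` for which `x ↦ x + L x ⊗ v` is in the overgroup -/
structure Lin (X : Subgroup (Matrix I J F ≃ₗ[F] Matrix I J F)) (v : J → F) (L : Matrix I J F →ₗ[F] (I → F)) : Prop where
  kill : ∀ u, L (vecMulVec u v) = 0
  mem : ∃ g ∈ X, ∀ x, g x = x + vecMulVec (L x) v

namespace Lin

variable {v : J → F} {L L' : Matrix I J F →ₗ[F] (I → F)}

theorem of_right (hX : Over X) {φ : J → F} (h : v ⬝ᵥ φ = 0) :
    Lin X v ({ toFun := fun x => x *ᵥ φ, map_add' := fun a b => add_mulVec a b φ,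
               map_smul' := fun c a => smul_mulVec c a φ } : Matrix I J F →ₗ[F] (I → F)) where
  kill u := by
    show vecMulVec u v *ᵥ φ = 0
    rw [vecMulVec_mulVec, h]
    simp
  mem := ⟨_, hX.right_mem h, fun x => right_apply h x⟩

theorem sub (h : Lin X v L) (h' : Lin X v L') : Lin X v (L - L') where
  kill u := by rw [LinearMap.sub_apply, h.kill, h'.kill, sub_zero]
  mem := by
    obtain ⟨g, hg, e⟩ := h.mem
    obtain ⟨g', hg', e'⟩ := h'.mem
    refine ⟨g * g'⁻¹, mul_mem hg (inv_mem hg'), fun x => ?_⟩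
    have hi : g'⁻¹ x = x - vecMulVec (L' x) v := g'.injective (by
      rw [apply_inv, e', map_sub, h'.kill, sub_zero, sub_add_cancel])
    rw [LinearEquiv.mul_apply, e, hi, map_sub, h.kill, sub_zero, LinearMap.sub_apply, sub_vecMulVec]
    abel

/-- conjugation by a unipotent element fixing the second factor -/
theorem of_right_conj (hX : Over X) (h : Lin X v L) {φ c : J → F} (hc : c ⬝ᵥ φ = 0) (hv : v ⬝ᵥ φ = 0) :
    Lin X v (L ∘ₗ rightN (I := I) φ c) := by
  set R := uni (rightN (I := I) φ c) with hR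
  have hR0 : ∀ x, R x = x + vecMulVec (x *ᵥ φ) c := right_apply hc
  have hfix : ∀ u : I → F, R (vecMulVec u v) = vecMulVec u v := fun u => by
    rw [hR0, vecMulVec_mulVec, hv, MulOpposite.op_zero, zero_smul, zero_vecMulVec, add_zero]
  have h1 : Lin X v (L ∘ₗ R.toLinearMap) := by
    refine ⟨fun u => ?_, ?_⟩
    · show L (R (vecMulVec u v)) = 0
      rw [hfix, h.kill]
    · obtain ⟨g, hg, e⟩ := h.mem
      refine ⟨R⁻¹ * g * R, mul_mem (mul_mem (inv_mem (hX.right_mem hc)) hg) (hX.right_mem hc), fun x => ?_⟩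
      rw [LinearEquiv.mul_apply, LinearEquiv.mul_apply, e, map_add, inv_apply]
      congr 1
      exact R.injective (by rw [apply_inv, hfix]; rfl)
  have e : L ∘ₗ rightN (I := I) φ c = L ∘ₗ R.toLinearMap - L := LinearMap.ext fun x => by
    show L (vecMulVec (x *ᵥ φ) c) = L (R x) - L x
    rw [hR0, map_add, add_sub_cancel_left]
  exact e ▸ h1.sub h

end Lin

/-- `M` composed with a vector of the second factor -/
def comp₂ (M : (I → F) →ₗ[F] (I → F)) (φ : J → F) : Matrix I J F →ₗ[F] (I → F) where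
  toFun x := M (x *ᵥ φ)
  map_add' x y := by rw [add_mulVec, map_add]
  map_smul' t x := by rw [smul_mulVec, map_smul]; rfl

theorem comp₂_apply (M : (I → F) →ₗ[F] (I → F)) (φ : J → F) (x : Matrix I J F) : comp₂ M φ x = M (x *ᵥ φ) := rfl

/-- conjugation by a transvection of the first factor -/
theorem Lin.left_diff (hX : Over X) {v : J → F} {M : (I → F) →ₗ[F] (I → F)} {φ : J → F} (h : Lin X v (comp₂ M φ))
    {u ψ : I → F} (hu : ψ ⬝ᵥ u = 0) :
    Lin X v (comp₂
      ({ toFun := fun y => (ψ ⬝ᵥ M y - (ψ ⬝ᵥ y) * (ψ ⬝ᵥ M u)) • u - (ψ ⬝ᵥ y) • M u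
         map_add' := fun a b => by simp only [map_add, dotProduct_add]; module
         map_smul' := fun c a => by simp only [map_smul, dotProduct_smul, RingHom.id_apply, smul_eq_mul]; module } :
        (I → F) →ₗ[F] (I → F)) φ) := by
  set S := uni (leftN (J := J) u ψ) with hS
  have hS0 : ∀ x, S x = x + vecMulVec u (ψ ᵥ* x) := left_apply hu
  have hSi : ∀ x, S⁻¹ x = x - vecMulVec u (ψ ᵥ* x) := fun x => S.injective (by
    rw [apply_inv, hS0, vecMul_sub, vecMul_vecMulVec, hu, zero_smul, sub_zero, sub_add_cancel])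
  have hSv : ∀ a : I → F, S (vecMulVec a v) = vecMulVec (a + (ψ ⬝ᵥ a) • u) v := fun a => by
    rw [hS0, vecMul_vecMulVec, vecMulVec_smul, add_vecMulVec, smul_vecMulVec]
  have hmv : ∀ x : Matrix I J F, S⁻¹ x *ᵥ φ = x *ᵥ φ - (ψ ⬝ᵥ (x *ᵥ φ)) • u := fun x => by
    rw [hSi, sub_mulVec, vecMulVec_mulVec, op_smul_eq_smul, dotProduct_mulVec]
  have h1 : Lin X v (comp₂ ({ toFun := fun y => M (y - (ψ ⬝ᵥ y) • u) + (ψ ⬝ᵥ M (y - (ψ ⬝ᵥ y) • u)) • u
                              map_add' := fun a b => by simp only [dotProduct_add, add_smul, map_sub, map_add, dotProduct_sub]; module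
                              map_smul' := fun c a => by
                                simp only [dotProduct_smul, RingHom.id_apply, smul_eq_mul, map_sub, map_smul, dotProduct_sub]
                                module } : (I → F) →ₗ[F] (I → F)) φ) := by
    obtain ⟨g, hg, e⟩ := h.mem
    refine ⟨fun a => ?_, S * g * S⁻¹, mul_mem (mul_mem (hX.left_mem hu) hg) (inv_mem (hX.left_mem hu)), fun x => ?_⟩
    · show M (vecMulVec a v *ᵥ φ - (ψ ⬝ᵥ (vecMulVec a v *ᵥ φ)) • u) +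
        (ψ ⬝ᵥ M (vecMulVec a v *ᵥ φ - (ψ ⬝ᵥ (vecMulVec a v *ᵥ φ)) • u)) • u = 0
      have h0 : ∀ y : I → F, M (vecMulVec y v *ᵥ φ) = 0 := fun y => h.kill y
      have h0' : ∀ y : I → F, (v ⬝ᵥ φ) • M y = 0 := fun y => by
        rw [← map_smul, ← op_smul_eq_smul, ← vecMulVec_mulVec]; exact h0 y
      rw [vecMulVec_mulVec, op_smul_eq_smul, dotProduct_smul, smul_assoc, ← smul_sub, map_smul, h0']
      simp
    · rw [LinearEquiv.mul_apply, LinearEquiv.mul_apply, e, map_add, apply_inv, hSv, comp₂_apply, hmv]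
      rfl
  have h2 := h1.sub h
  convert h2 using 1
  refine LinearMap.ext fun x => ?_
  show _ = (M (x *ᵥ φ - (ψ ⬝ᵥ (x *ᵥ φ)) • u) + (ψ ⬝ᵥ M (x *ᵥ φ - (ψ ⬝ᵥ (x *ᵥ φ)) • u)) • u) - M (x *ᵥ φ)
  simp only [comp₂, LinearMap.coe_mk, AddHom.coe_mk, map_sub, map_smul, dotProduct_sub, dotProduct_smul, smul_eq_mul]
  module

/-- failing stabilisers give a map that is not a composite with a vector -/
theorem exists_lin (hX : Over X) (hS : ¬ StabOK X) :
    ∃ v, v ≠ 0 ∧ ∃ L, Lin X v L ∧ ∀ φ, ∃ x, L x ≠ x *ᵥ φ := by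
  classical
  simp only [StabOK, not_forall] at hS
  obtain ⟨h, hh, v, hv, hmap, hhN⟩ := hS
  by_contra hc
  push Not at hc
  have hc' : ∀ L, Lin X v L → ∃ φ, ∀ x, L x = x *ᵥ φ := hc v hv
  obtain ⟨φ₀, -, hφ₀⟩ := exists_dot (S := ⊥) (x := v) (by simpa using hv)
  let ev : Matrix I J F →ₗ[F] (I → F) :=
    { toFun := fun x => x *ᵥ φ₀, map_add' := fun a b => add_mulVec a b φ₀, map_smul' := fun c a => smul_mulVec c a φ₀ }
  have hev : ∀ x, ev x = x *ᵥ φ₀ := fun x => rfl
  have hevv : ∀ u : I → F, ev (vecMulVec u v) = u := fun u => by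
    rw [hev, vecMulVec_mulVec, hφ₀, MulOpposite.op_one, one_smul]
  let a : (I → F) →ₗ[F] (I → F) := ev ∘ₗ h.toLinearMap ∘ₗ
    ({ toFun := fun u => vecMulVec u v, map_add' := fun x y => add_vecMulVec x y v,
       map_smul' := fun c x => smul_vecMulVec c x v } : (I → F) →ₗ[F] Matrix I J F)
  have ha : ∀ u, h (vecMulVec u v) = vecMulVec (a u) v := fun u => by
    obtain ⟨u', hu'⟩ := (hmap.le ⟨_, vec_mem_pl u v, rfl⟩ : h (vecMulVec u v) ∈ pl (I := I) v)
    have hu'' : vecMulVec u' v = h (vecMulVec u v) := hu'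
    have : a u = u' := by
      show ev (h (vecMulVec u v)) = u'
      rw [← hu'', hevv]
    rw [this, hu'']
  have hainj : Function.Injective a := fun x y e => vecMulVec_left_inj hv (h.injective (by rw [ha, ha, e]))
  -- every right transvection is carried to one
  have hφ : ∀ φ, v ⬝ᵥ φ = 0 → ∃ φ', ∀ x, (h x) *ᵥ φ' = a (x *ᵥ φ) := fun φ hφ => by
    obtain ⟨φ', hφ'⟩ := hc' (comp₂ a φ ∘ₗ (h⁻¹ : Matrix I J F ≃ₗ[F] Matrix I J F).toLinearMap)
      { kill := fun u => by
          show a (h⁻¹ (vecMulVec u v) *ᵥ φ) = 0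
          obtain ⟨u', hu'⟩ := LinearMap.surjective_of_injective hainj u
          rw [← hu', ← ha, inv_apply, vecMulVec_mulVec, hφ]
          simp
        mem := ⟨h * uni (rightN (I := I) φ v) * h⁻¹, mul_mem (mul_mem hh (hX.right_mem hφ)) (inv_mem hh), fun x => by
          rw [LinearEquiv.mul_apply, LinearEquiv.mul_apply, right_apply hφ, map_add, apply_inv, ha]
          rfl⟩ }
    refine ⟨φ', fun x => ?_⟩
    rw [← hφ' (h x)]
    show a (h⁻¹ (h x) *ᵥ φ) = _
    rw [inv_apply]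
  let W : Submodule F (J → F) := LinearMap.ker (dotProductBilin F F v)
  have hW : ∀ φ, φ ∈ W ↔ v ⬝ᵥ φ = 0 := fun φ => Iff.rfl
  have hsep : ∀ φ φ' : J → F, (∀ x : Matrix I J F, x *ᵥ φ = x *ᵥ φ') → φ = φ' := fun φ φ' e => by
    obtain ⟨i⟩ : Nonempty I := Fintype.card_pos_iff.1 (by have := hX.two; omega)
    funext j
    simpa [Matrix.single_mulVec] using congrFun (e (Matrix.single i j 1)) i
  have hinjh : ∀ φ φ' : J → F, (∀ x, h x *ᵥ φ = h x *ᵥ φ') → φ = φ' := fun φ φ' e => hsep φ φ' fun x => by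
    obtain ⟨y, rfl⟩ := h.surjective x
    exact e y
  choose f hf using fun φ : W => hφ φ ((hW _).1 φ.2)
  let f' : W →ₗ[F] W :=
    { toFun := fun φ => ⟨f φ, (hW _).2 (by
        obtain ⟨i, hi⟩ : ∃ i : I, True := ⟨Classical.choice (Fintype.card_pos_iff.1 (by have := hX.two; omega)), trivial⟩
        have h1 := hf φ (vecMulVec (Pi.single i 1) v)
        rw [ha, vecMulVec_mulVec, vecMulVec_mulVec, (hW _).1 φ.2, MulOpposite.op_zero, zero_smul, map_zero,
          op_smul_eq_smul, smul_eq_zero] at h1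
        exact h1.resolve_right fun e0 => by
          have h2 := hainj (a₁ := Pi.single i 1) (a₂ := 0) (by rw [e0, map_zero])
          simpa using congrFun h2 i)⟩
      map_add' := fun φ φ' => Subtype.ext (hinjh _ _ fun x => by
        show h x *ᵥ f (φ + φ') = h x *ᵥ (f φ + f φ')
        rw [mulVec_add, hf, hf, hf, Submodule.coe_add, mulVec_add, map_add])
      map_smul' := fun c φ => Subtype.ext (hinjh _ _ fun x => by
        show h x *ᵥ f (c • φ) = h x *ᵥ (c • f φ)
        rw [mulVec_smul, hf, hf, SetLike.val_smul, mulVec_smul, map_smul]) }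
  have hf' : Function.Injective f' := fun φ φ' e => Subtype.ext (hsep _ _ fun x => hainj (by
    rw [← hf, ← hf, show f φ = f φ' from congrArg Subtype.val e]))
  obtain ⟨e', he'⟩ : ∃ e' : W →ₗ[F] W, ∀ φ, f' (e' φ) = φ :=
    ⟨(LinearEquiv.ofInjectiveEndo f' hf').symm.toLinearMap, fun φ => by
      exact (LinearEquiv.ofInjectiveEndo f' hf').apply_symm_apply φ⟩
  -- the candidate in the decomposition group
  let pr : (J → F) →ₗ[F] W := LinearMap.codRestrict W (LinearMap.id - (dotProductBilin F F v).smulRight φ₀) fun φ => by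
    rw [hW]
    simp [dotProduct_sub, dotProduct_smul, hφ₀]
  let β : (J → F) →ₗ[F] (J → F) := W.subtype ∘ₗ e' ∘ₗ pr + (dotProductBilin F F v).smulRight φ₀
  have hβv : ∀ φ, v ⬝ᵥ β φ = v ⬝ᵥ φ := fun φ => by
    show v ⬝ᵥ ((e' (pr φ) : J → F) + (v ⬝ᵥ φ) • φ₀) = _
    rw [dotProduct_add, (hW _).1 (e' (pr φ)).2, dotProduct_smul, hφ₀]
    simp
  have hβW : ∀ φ : W, β φ = (e' φ : J → F) := fun φ => by
    show (e' (pr φ) : J → F) + (v ⬝ᵥ (φ : J → F)) • φ₀ = _
    rw [(hW _).1 φ.2, zero_smul, add_zero]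
    congr 2
    refine Subtype.ext ?_
    show (φ : J → F) - (v ⬝ᵥ (φ : J → F)) • φ₀ = φ
    rw [(hW _).1 φ.2, zero_smul, sub_zero]
  have hβinj : Function.Injective β := fun φ φ' e => by
    have h1 : v ⬝ᵥ φ = v ⬝ᵥ φ' := by rw [← hβv, e, hβv]
    have h2 : (e' (pr φ) : J → F) = e' (pr φ') := by
      have e2 : (e' (pr φ) : J → F) + (v ⬝ᵥ φ) • φ₀ = (e' (pr φ') : J → F) + (v ⬝ᵥ φ') • φ₀ := e
      rw [h1] at e2
      exact add_right_cancel e2
    have h3 : pr φ = pr φ' := by rw [← he' (pr φ), ← he' (pr φ'), Subtype.ext h2]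
    have h4 : φ - (v ⬝ᵥ φ) • φ₀ = φ' - (v ⬝ᵥ φ') • φ₀ := congrArg Subtype.val h3
    rw [h1] at h4
    exact sub_left_injective h4
  obtain ⟨A, hA⟩ : ∃ A : GL I F, ∀ u, (A : Matrix I I F) *ᵥ u = a u :=
    ⟨(glEquiv I F).symm (LinearEquiv.ofInjectiveEndo a hainj), fun u => symm_mulVec _ u⟩
  obtain ⟨B, hB⟩ : ∃ B : GL J F, ∀ φ, (B : Matrix J J F) *ᵥ φ = β φ :=
    ⟨(glEquiv J F).symm (LinearEquiv.ofInjectiveEndo β hβinj), fun φ => symm_mulVec _ φ⟩
  let k : Matrix I J F ≃ₗ[F] Matrix I J F :=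
    { toFun := fun x => (A : Matrix I I F) * x * (B : Matrix J J F)
      map_add' := fun x y => by rw [Matrix.mul_add, Matrix.add_mul]
      map_smul' := fun c x => by rw [Matrix.mul_smul, Matrix.smul_mul]; rfl
      invFun := fun x => ((A⁻¹ : GL I F) : Matrix I I F) * x * ((B⁻¹ : GL J F) : Matrix J J F)
      left_inv := fun x => by
        show _ * ((A : Matrix I I F) * x * (B : Matrix J J F)) * _ = x
        simp only [← Matrix.mul_assoc]
        rw [← Units.val_mul, inv_mul_cancel, Units.val_one, Matrix.one_mul, Matrix.mul_assoc, ← Units.val_mul,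
          mul_inv_cancel, Units.val_one, Matrix.mul_one]
      right_inv := fun x => by
        show (A : Matrix I I F) * (_ * x * _) * (B : Matrix J J F) = x
        simp only [← Matrix.mul_assoc]
        rw [← Units.val_mul, mul_inv_cancel, Units.val_one, Matrix.one_mul, Matrix.mul_assoc, ← Units.val_mul,
          inv_mul_cancel, Units.val_one, Matrix.mul_one] }
  have hkN : InN k := ⟨A, B, fun x => rfl⟩
  have hkm : ∀ (x : Matrix I J F) φ, k x *ᵥ φ = a (x *ᵥ β φ) := fun x φ => by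
    show ((A : Matrix I I F) * x * (B : Matrix J J F)) *ᵥ φ = _
    rw [← mulVec_mulVec, ← mulVec_mulVec, hB, hA]
  have hkv : ∀ u, k (vecMulVec u v) = vecMulVec (a u) v := fun u => by
    rw [← ha u]
    have hd : h (vecMulVec u v) = vecMulVec (a u) v := ha u
    rw [hd]
    refine Matrix.ext_of_mulVec_single fun j => ?_
    rw [hkm, vecMulVec_mulVec, vecMulVec_mulVec, hβv, op_smul_eq_smul, op_smul_eq_smul, map_smul]
  -- the difference is pure along v
  have hD : ∀ x, h x - k x = vecMulVec ((h x - k x) *ᵥ φ₀) v := fun x => eq_vec hφ₀ fun φ hφ => by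
    rw [sub_mulVec, hkm, sub_eq_zero, show β φ = (e' ⟨φ, (hW _).2 hφ⟩ : J → F) from hβW ⟨φ, (hW _).2 hφ⟩,
      ← hf (e' ⟨φ, (hW _).2 hφ⟩) x]
    congr 1
    exact (congrArg Subtype.val (he' ⟨φ, (hW _).2 hφ⟩)).symm
  let ev' : Matrix I J F →ₗ[F] (I → F) := ev ∘ₗ (k⁻¹ : Matrix I J F ≃ₗ[F] Matrix I J F).toLinearMap ∘ₗ (h.toLinearMap - k.toLinearMap)
  have hki : ∀ u, k⁻¹ (vecMulVec u v) ∈ pl (I := I) v := fun u => by
    obtain ⟨u', rfl⟩ := LinearMap.surjective_of_injective hainj u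
    rw [← hkv, inv_apply]
    exact vec_mem_pl _ _
  have hu : ∀ x, (k⁻¹ * h) x = x + vecMulVec (ev' x) v := fun x => by
    obtain ⟨u', hu'⟩ := hki ((h x - k x) *ᵥ φ₀)
    have hu'' : vecMulVec u' v = k⁻¹ (vecMulVec ((h x - k x) *ᵥ φ₀) v) := hu'
    rw [← hD] at hu''
    have e2 : ev' x = u' := by
      show ev (k⁻¹ (h x - k x)) = u'
      rw [← hu'', hevv]
    rw [e2, hu'', map_sub, inv_apply, LinearEquiv.mul_apply]
    abel
  have hkill : ∀ u, ev' (vecMulVec u v) = 0 := fun u => by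
    show ev (k⁻¹ (h (vecMulVec u v) - k (vecMulVec u v))) = 0
    rw [ha, hkv, sub_self, map_zero, map_zero]
  let N' : Matrix I J F →ₗ[F] Matrix I J F :=
    { toFun := fun x => vecMulVec (ev' x) v
      map_add' := fun x y => by rw [map_add, add_vecMulVec]
      map_smul' := fun c x => by rw [map_smul, smul_vecMulVec]; rfl }
  have hN' : N' ∘ₗ N' = 0 := LinearMap.ext fun x => by
    show vecMulVec (ev' (vecMulVec (ev' x) v)) v = 0
    rw [hkill, zero_vecMulVec]
  have hku : k⁻¹ * h = uni N' := LinearEquiv.ext fun x => (hu x).trans (uni_apply hN' x).symm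
  have hkdet : LinearMap.det k.toLinearMap = 1 := by
    have h1 : h.toLinearMap = k.toLinearMap ∘ₗ (uni N').toLinearMap := LinearMap.ext fun x => by
      show h x = k (uni N' x)
      rw [← hku, LinearEquiv.mul_apply, apply_inv]
    have h2 := congrArg LinearMap.det h1
    rwa [LinearMap.det_comp, det_uni hN', mul_one, hX.det h hh, eq_comm] at h2
  obtain ⟨φ₁, hφ₁⟩ := hc' ev' ⟨hkill, k⁻¹ * h, mul_mem (inv_mem (hX.le k hkN hkdet)) hh, hu⟩
  have hvφ₁ : v ⬝ᵥ φ₁ = 0 := by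
    obtain ⟨i⟩ : Nonempty I := Fintype.card_pos_iff.1 (by have := hX.two; omega)
    have h1 := congrFun ((hφ₁ (vecMulVec (Pi.single i 1) v)).symm.trans (hkill _)) i
    rw [vecMulVec_mulVec] at h1
    simpa using h1
  refine hhN ?_
  have h1 : k⁻¹ * h = uni (rightN (I := I) φ₁ v) := LinearEquiv.ext fun x => by
    rw [hu, right_apply hvφ₁, hφ₁]
  have h2 := hkN.mul (inN_right (I := I) hvφ₁)
  rwa [← h1, mul_inv_cancel_left] at h2

/-- a transvection with pure centre and functional -/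
theorem exists_pure (hX : Over X) (hS : ¬ StabOK X) :
    ∃ (u ψ : I → F) (v φ : J → F), u ≠ 0 ∧ ψ ≠ 0 ∧ v ≠ 0 ∧ φ ≠ 0 ∧ ψ ⬝ᵥ u = 0 ∧ v ⬝ᵥ φ = 0 ∧
      tvec (pairF ψ φ) (vecMulVec u v) ∈ X := by
  classical
  have hI2 := hX.two
  have hJ3 : 3 ≤ Fintype.card J := by have := hX.lt; omega
  obtain ⟨v, hv, L, hL, hne⟩ := exists_lin hX hS
  let M : (J → F) → (I → F) →ₗ[F] (I → F) := fun c =>
    { toFun := fun u => L (vecMulVec u c)
      map_add' := fun a b => by rw [add_vecMulVec, map_add]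
      map_smul' := fun t a => by rw [smul_vecMulVec, map_smul]; rfl }
  obtain ⟨c, hc⟩ : ∃ c, ∀ t : F, M c ≠ t • LinearMap.id := by
    by_contra hcon
    push Not at hcon
    choose t ht using hcon
    obtain ⟨x, hx⟩ := hne fun j => t (Pi.single j 1)
    apply hx
    clear hx
    have hs : ∀ i j, L (Matrix.single i j 1) = Matrix.single i j (1 : F) *ᵥ (fun j => t (Pi.single j 1)) := fun i j => by
      rw [Matrix.single_eq_single_vecMulVec_single]
      have := LinearMap.congr_fun (ht (Pi.single j 1)) (Pi.single i 1)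
      rw [vecMulVec_mulVec, single_dotProduct, one_mul, op_smul_eq_smul]
      exact this
    induction x using Matrix.induction_on' with
    | h_zero => rw [map_zero, zero_mulVec]
    | h_add p q hp hq => rw [map_add, add_mulVec, hp, hq]
    | h_std_basis i j a =>
      rw [← mul_one a, ← smul_eq_mul, ← Matrix.smul_single, map_smul, hs, smul_mulVec]
  obtain ⟨φ, hφ0, hcφ, hvφ⟩ := exists_orth_pair hJ3 c v
  have hM : Lin X v (comp₂ (M c) φ) := by
    have := hL.of_right_conj hX hcφ hvφ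
    convert this using 1
    exact LinearMap.ext fun x => rfl
  -- an eigenvector
  obtain ⟨M', hM', hns, u, hu0, lam, hlam⟩ : ∃ M' : (I → F) →ₗ[F] (I → F), Lin X v (comp₂ M' φ) ∧
      (∀ t : F, M' ≠ t • LinearMap.id) ∧ ∃ u, u ≠ 0 ∧ ∃ lam : F, M' u = lam • u := by
    by_cases he : ∃ u, u ≠ 0 ∧ ∃ lam : F, M c u = lam • u
    · exact ⟨M c, hM, hc, he⟩
    push Not at he
    obtain ⟨u, hu0, -⟩ := exists_orth_one (F := F) (K := I) hI2 0
    have hindep : ∀ s t : F, s • u + t • M c u = 0 → s = 0 ∧ t = 0 := fun s t e => by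
      have ht : t = 0 := by
        by_contra ht
        refine he u hu0 (-(t⁻¹ * s)) ?_
        rw [neg_smul, mul_smul, eq_neg_iff_add_eq_zero]
        have := congrArg (t⁻¹ • ·) e
        simp only [smul_add, inv_smul_smul₀ ht, smul_zero] at this
        rw [add_comm]; exact this
      subst ht
      rw [zero_smul, add_zero] at e
      exact ⟨(smul_eq_zero.1 e).resolve_right hu0, rfl⟩
    obtain ⟨ψ, hψu, hψ'⟩ : ∃ ψ : I → F, ψ ⬝ᵥ u = 0 ∧
        ((ψ ≠ 0 ∧ ψ ⬝ᵥ M c u = 0) ∨ (ψ ⬝ᵥ M c u ≠ 0 ∧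
          ψ ⬝ᵥ M c (M c u) ≠ (ψ ⬝ᵥ M c u) * (ψ ⬝ᵥ M c u))) := by
      by_cases hI3 : 3 ≤ Fintype.card I
      · obtain ⟨ψ, h1, h2, h3⟩ := exists_orth_pair hI3 u (M c u)
        exact ⟨ψ, by rw [dotProduct_comm, h2], Or.inl ⟨h1, by rw [dotProduct_comm, h3]⟩⟩
      · have h3 := hX.big (by omega)
        obtain ⟨ψ₁, h1, h2⟩ := exists_dot (S := F ∙ u) (x := M c u) (fun hm => by
          obtain ⟨s, hs⟩ := Submodule.mem_span_singleton.1 hm
          have := (hindep s (-1) (by rw [hs]; module)).2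
          exact neg_ne_zero.2 one_ne_zero this)
        obtain ⟨s, hs⟩ : ∃ s : F, s ≠ 0 ∧ s ≠ ψ₁ ⬝ᵥ M c (M c u) := by
          haveI := Fintype.ofFinite F
          rw [Nat.card_eq_fintype_card] at h3
          by_contra hcon
          push Not at hcon
          have hsub : (Finset.univ : Finset F) ⊆ {0, ψ₁ ⬝ᵥ M c (M c u)} := fun s _ => by
            by_cases hs0 : s = 0
            · simp [hs0]
            · simp [hcon s hs0]
          have := (Finset.card_le_card hsub).trans Finset.card_le_two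
          rw [Finset.card_univ] at this
          omega
        have h2' : ψ₁ ⬝ᵥ M c u = 1 := by rw [dotProduct_comm, h2]
        refine ⟨s • ψ₁, by rw [smul_dotProduct, dotProduct_comm, h1 u (Submodule.mem_span_singleton_self u), smul_zero],
          Or.inr ⟨by rw [smul_dotProduct, h2', smul_eq_mul, mul_one]; exact hs.1, fun e => hs.2 ?_⟩⟩
        simp only [smul_dotProduct, h2', smul_eq_mul, mul_one] at e
        exact (mul_left_cancel₀ hs.1 e).symm
    refine ⟨_, hM.left_diff hX hψu, fun t ht => ?_, u, hu0, ψ ⬝ᵥ M c u, ?_⟩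
    · have hDu := LinearMap.congr_fun ht u
      simp only [LinearMap.coe_mk, AddHom.coe_mk, hψu, zero_mul, sub_zero, zero_smul, LinearMap.smul_apply,
        LinearMap.id_apply] at hDu
      have ht' : t = ψ ⬝ᵥ M c u := (smul_left_injective F hu0 hDu).symm
      rcases hψ' with ⟨hψ0, hψM⟩ | ⟨hs, hs2⟩
      · obtain ⟨i, hi⟩ := Function.ne_iff.1 hψ0
        have hDx := LinearMap.congr_fun ht (Pi.single i 1)
        rw [ht', hψM, zero_smul] at hDx
        simp only [LinearMap.coe_mk, AddHom.coe_mk, hψM, mul_zero, sub_zero, LinearMap.smul_apply, LinearMap.zero_apply, zero_smul] at hDx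
        have := (hindep (ψ ⬝ᵥ M c (Pi.single i 1)) (-(ψ ⬝ᵥ Pi.single i 1)) (by linear_combination (norm := module) hDx)).2
        rw [neg_eq_zero, dotProduct_single, mul_one] at this
        exact hi this
      · have hDx := LinearMap.congr_fun ht (M c u)
        simp only [LinearMap.coe_mk, AddHom.coe_mk, LinearMap.smul_apply, LinearMap.id_apply, ht'] at hDx
        have := (hindep (ψ ⬝ᵥ M c (M c u) - (ψ ⬝ᵥ M c u) * (ψ ⬝ᵥ M c u)) (-(ψ ⬝ᵥ M c u) - ψ ⬝ᵥ M c u)
          (by linear_combination (norm := module) hDx)).1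
        exact hs2 (sub_eq_zero.1 this)
    · simp only [LinearMap.coe_mk, AddHom.coe_mk, hψu, zero_mul, sub_zero, zero_smul]
  -- a map of rank one
  obtain ⟨χ, hχ0, hχu, hχ⟩ : ∃ χ : I → F, χ ≠ 0 ∧ χ ⬝ᵥ u = 0 ∧
      Lin X v (comp₂ ((dotProductBilin F F χ).smulRight u) φ) := by
    let coef : (I → F) →ₗ[F] (I → F) := M' - lam • LinearMap.id
    have hcoef : ∀ y, coef y = M' y - lam • y := fun y => rfl
    by_cases hh : ∀ ψ, ψ ⬝ᵥ u = 0 → ∀ y, ψ ⬝ᵥ coef y = 0
    · obtain ⟨i₀, hi₀⟩ := Function.ne_iff.1 hu0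
      have himg : ∀ y, coef y ∈ F ∙ u := fun y => dot_span fun ψ hψ => by
        rw [dotProduct_comm]; exact hh ψ (by rw [dotProduct_comm, hψ]) y
      choose r hr using fun y => Submodule.mem_span_singleton.1 (himg y)
      have hr' : ∀ y, r y = coef y i₀ / u i₀ := fun y => by
        rw [← hr y, Pi.smul_apply, smul_eq_mul, mul_div_cancel_right₀ _ hi₀]
      obtain ⟨χ, hχ⟩ : ∃ χ : I → F, ∀ y, χ ⬝ᵥ y = r y := by
        refine ⟨fun i => r (Pi.single i 1), fun y => ?_⟩
        conv_rhs => rw [hr', pi_eq_sum_univ y, map_sum, Finset.sum_apply, Finset.sum_div]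
        refine Finset.sum_congr rfl fun i _ => ?_
        rw [map_smul, Pi.smul_apply, smul_eq_mul,
          show (fun j => if i = j then (1 : F) else 0) = Pi.single i 1 by funext j; simp [Pi.single_apply, eq_comm],
          ]
        show r (Pi.single i 1) * y i = _
        rw [hr']
        ring
      refine ⟨χ, fun e => hns lam (LinearMap.ext fun y => sub_eq_zero.1 ?_), ?_, ?_⟩
      · show coef y = 0
        rw [← hr y, ← hχ, e, zero_dotProduct, zero_smul]
      · rw [hχ, hr', hcoef, hlam, sub_self]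
        simp
      · have hsc := (Lin.of_right (X := X) hX (φ := lam • φ) (v := v)
          (by rw [dotProduct_smul, hvφ, smul_zero]))
        convert hM'.sub hsc using 1
        refine LinearMap.ext fun x => ?_
        show (χ ⬝ᵥ (x *ᵥ φ)) • u = M' (x *ᵥ φ) - x *ᵥ (lam • φ)
        rw [hχ, hr, hcoef, mulVec_smul]
    · push Not at hh
      obtain ⟨ψ, hψu, y₀, hy₀⟩ := hh
      let ξ : I → F := fun i => ψ ⬝ᵥ coef (Pi.single i 1)
      have hξ : ∀ y, ξ ⬝ᵥ y = ψ ⬝ᵥ coef y := fun y => by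
        conv_rhs => rw [pi_eq_sum_univ y, map_sum, dotProduct_sum]
        refine Finset.sum_congr rfl fun i _ => ?_
        rw [map_smul, dotProduct_smul, smul_eq_mul,
          show (fun j => if i = j then (1 : F) else 0) = Pi.single i 1 by funext j; simp [Pi.single_apply, eq_comm]]
        exact mul_comm _ _
      refine ⟨ξ, fun e => hy₀ (by rw [← hξ, e, zero_dotProduct]), ?_, ?_⟩
      · rw [hξ, hcoef, hlam, sub_self, dotProduct_zero]
      · convert hM'.left_diff hX hψu using 2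
        refine LinearMap.ext fun y => ?_
        show (ξ ⬝ᵥ y) • u = _
        simp only [LinearMap.coe_mk, AddHom.coe_mk, hξ, hcoef, hlam, dotProduct_sub, dotProduct_smul, hψu,
          smul_eq_mul, mul_zero]
        module
  obtain ⟨g, hg, e⟩ := hχ.mem
  have hk : pairF χ φ (vecMulVec u v) = 0 := by rw [pairF_vec, hχu, zero_mul]
  refine ⟨u, χ, v, φ, hu0, hχ0, hv, hφ0, hχu, hvφ, ?_⟩
  have : tvec (pairF χ φ) (vecMulVec u v) = g := LinearEquiv.ext fun x => by
    rw [tvec_apply hk, e]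
    show _ = x + vecMulVec ((χ ⬝ᵥ (x *ᵥ φ)) • u) v
    rw [smul_vecMulVec]
    rfl
  exact this ▸ hg

/-- transvections from pairs -/
def Elem (X : Subgroup (Matrix I J F ≃ₗ[F] Matrix I J F)) (u : I → F) (v : J → F) (χ : Dual F (Matrix I J F)) : Prop :=
  χ (vecMulVec u v) = 0 ∧ tvec χ (vecMulVec u v) ∈ X

theorem Elem.zero (u : I → F) (v : J → F) : Elem X u v 0 :=
  ⟨rfl, by rw [tvec_zero_left]; exact one_mem X⟩

theorem Elem.add {u : I → F} {v : J → F} {χ χ' : Dual F (Matrix I J F)} (h : Elem X u v χ) (h' : Elem X u v χ') :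
    Elem X u v (χ + χ') :=
  ⟨by rw [LinearMap.add_apply, h.1, h'.1, add_zero], tvec_mul_left h.1 h'.1 ▸ mul_mem h.2 h'.2⟩

theorem Elem.neg {u : I → F} {v : J → F} {χ : Dual F (Matrix I J F)} (h : Elem X u v χ) : Elem X u v (-χ) :=
  ⟨by rw [LinearMap.neg_apply, h.1, neg_zero], tvec_inv h.1 ▸ inv_mem h.2⟩

/-- transport by an element preserving a pure vector -/
theorem Elem.move {u u' : I → F} {v v' : J → F} {χ : Dual F (Matrix I J F)} (h : Elem X u v χ)
    {g : Matrix I J F ≃ₗ[F] Matrix I J F} (hg : g ∈ X) (he : g (vecMulVec u v) = vecMulVec u' v') :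
    Elem X u' v' (χ ∘ₗ (g⁻¹ : Matrix I J F ≃ₗ[F] Matrix I J F).toLinearMap) := by
  refine ⟨?_, ?_⟩
  · show χ (g⁻¹ (vecMulVec u' v')) = 0
    rw [← he, inv_apply, h.1]
  · have := mul_mem (mul_mem hg h.2) (inv_mem hg)
    convert this using 1
    refine LinearEquiv.ext fun x => ?_
    rw [LinearEquiv.mul_apply, LinearEquiv.mul_apply, tvec_apply h.1, map_add, apply_inv, map_smul, he, tvec_apply]
    · rfl
    · show χ (g⁻¹ (vecMulVec u' v')) = 0
      rw [← he, inv_apply, h.1]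

/-- the commutator rule -/
theorem Elem.comm {u u' : I → F} {v v' : J → F} {χ χ' : Dual F (Matrix I J F)} (h : Elem X u v χ) (h' : Elem X u' v' χ')
    (h0 : χ' (vecMulVec u v) = 0) : Elem X u v (χ (vecMulVec u' v') • χ') := by
  have hm := mul_mem (mul_mem (mul_mem h.2 h'.2) (inv_mem h.2)) (inv_mem h'.2)
  refine ⟨by rw [LinearMap.smul_apply, h0, smul_zero], ?_⟩
  convert hm using 1
  refine LinearEquiv.ext fun x => ?_
  have hn : (-χ) (vecMulVec u v) = 0 := by rw [LinearMap.neg_apply, h.1, neg_zero]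
  have hn' : (-χ') (vecMulVec u' v') = 0 := by rw [LinearMap.neg_apply, h'.1, neg_zero]
  rw [tvec_inv h.1, tvec_inv h'.1, LinearEquiv.mul_apply, LinearEquiv.mul_apply, LinearEquiv.mul_apply,
    tvec_apply (by rw [LinearMap.smul_apply, h0, smul_zero]), tvec_apply hn',
    tvec_apply hn, tvec_apply h'.1, tvec_apply h.1]
  simp only [LinearMap.smul_apply, LinearMap.neg_apply, map_add, map_smul, h.1, h'.1, h0, smul_eq_mul]
  module

/-- everything from one pure transvection -/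
theorem tvec_mem (hX : Over X) (hS : ¬ StabOK X) :
    ∀ (χ : Dual F (Matrix I J F)) (y : Matrix I J F), χ y = 0 → tvec χ y ∈ X := by
  classical
  have hI2 := hX.two
  have hJ3 : 3 ≤ Fintype.card J := by have := hX.lt; omega
  obtain ⟨u₀, ψ₀, v₀, φ₀, hu₀, hψ₀, hv₀, hφ₀, hψu₀, hvφ₀, hm⟩ := exists_pure hX hS
  have h0 : Elem X u₀ v₀ (pairF ψ₀ φ₀) := ⟨by rw [pairF_vec, hψu₀, zero_mul], hm⟩
  have hpa : ∀ (ψ : I → F) (φ φ' : J → F), pairF ψ (φ + φ') = pairF ψ φ + pairF ψ φ' := fun ψ φ φ' =>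
    LinearMap.ext fun x => by
      show ψ ⬝ᵥ (x *ᵥ (φ + φ')) = ψ ⬝ᵥ (x *ᵥ φ) + ψ ⬝ᵥ (x *ᵥ φ')
      rw [mulVec_add, dotProduct_add]
  have hpb : ∀ (ψ ψ' : I → F) (φ : J → F), pairF (ψ + ψ') φ = pairF ψ φ + pairF ψ' φ := fun ψ ψ' φ =>
    LinearMap.ext fun x => by
      show (ψ + ψ') ⬝ᵥ (x *ᵥ φ) = ψ ⬝ᵥ (x *ᵥ φ) + ψ' ⬝ᵥ (x *ᵥ φ)
      rw [add_dotProduct]
  have hsc : ∀ (c : F) (ψ : I → F) (φ : J → F), pairF (c • ψ) φ = pairF ψ (c • φ) := fun c ψ φ =>
    LinearMap.ext fun x => by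
      show (c • ψ) ⬝ᵥ (x *ᵥ φ) = ψ ⬝ᵥ (x *ᵥ (c • φ))
      rw [mulVec_smul, smul_dotProduct, dotProduct_smul]
  -- all functionals of the second factor
  have hφall : ∀ φ, v₀ ⬝ᵥ φ = 0 → Elem X u₀ v₀ (pairF ψ₀ φ) := by
    have step : ∀ φ, v₀ ⬝ᵥ φ = 0 → φ ∉ F ∙ φ₀ → Elem X u₀ v₀ (pairF ψ₀ φ) := fun φ hvφ hφ => by
      obtain ⟨c, hc1, hc2⟩ := exists_dot (S := F ∙ φ) (x := φ₀) (fun hm => by
        obtain ⟨t, ht⟩ := Submodule.mem_span_singleton.1 hm
        have ht0 : t ≠ 0 := fun e => hφ₀ (by rw [← ht, e, zero_smul])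
        exact hφ (Submodule.mem_span_singleton.2 ⟨t⁻¹, by rw [← ht, inv_smul_smul₀ ht0]⟩))
      have hcφ : c ⬝ᵥ φ = 0 := by rw [dotProduct_comm]; exact hc1 φ (Submodule.mem_span_singleton_self φ)
      have hfix : uni (rightN (I := I) φ c) (vecMulVec u₀ v₀) = vecMulVec u₀ v₀ := by
        rw [right_apply hcφ, vecMulVec_mulVec, hvφ, MulOpposite.op_zero, zero_smul, zero_vecMulVec, add_zero]
      have h1 := h0.move (inv_mem (hX.right_mem (I := I) hcφ))
        (show (uni (rightN (I := I) φ c))⁻¹ (vecMulVec u₀ v₀) = vecMulVec u₀ v₀ from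
          (congrArg _ hfix).symm.trans (inv_apply _ _))
      rw [inv_inv] at h1
      have h2 := h1.add h0.neg
      convert h2 using 1
      refine LinearMap.ext fun x => ?_
      show ψ₀ ⬝ᵥ (x *ᵥ φ) = ψ₀ ⬝ᵥ (uni (rightN (I := I) φ c) x *ᵥ φ₀) + -(ψ₀ ⬝ᵥ (x *ᵥ φ₀))
      rw [right_apply hcφ, add_mulVec, vecMulVec_mulVec, dotProduct_comm c, hc2, MulOpposite.op_one, one_smul,
        dotProduct_add]
      ring
    intro φ hvφ
    by_cases hφ : φ ∈ F ∙ φ₀
    swap
    · exact step φ hvφ hφ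
    obtain ⟨φ', hφ'v, hφ'0⟩ : ∃ φ', v₀ ⬝ᵥ φ' = 0 ∧ φ' ∉ F ∙ φ₀ := by
      obtain ⟨a, ha1, ha2⟩ := exists_dot (S := ⊥) (x := φ₀) (by simpa using hφ₀)
      obtain ⟨φ', h1, h2, h3⟩ := exists_orth_pair hJ3 v₀ a
      refine ⟨φ', h2, fun hm => ?_⟩
      obtain ⟨t, ht⟩ := Submodule.mem_span_singleton.1 hm
      rw [← ht, dotProduct_smul, dotProduct_comm a, ha2, smul_eq_mul, mul_one] at h3
      exact h1 (by rw [← ht, h3, zero_smul])
    have h1 := step (φ + φ') (by rw [dotProduct_add, hvφ, hφ'v, add_zero]) (fun hm => hφ'0 (by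
      simpa using Submodule.sub_mem _ hm hφ))
    have h2 := h1.add (step φ' hφ'v hφ'0).neg
    rwa [hpa, add_neg_cancel_right] at h2
  -- all functionals of the first factor
  have hall₀ : ∀ ψ φ, ψ ⬝ᵥ u₀ = 0 → v₀ ⬝ᵥ φ = 0 → Elem X u₀ v₀ (pairF ψ φ) := by
    have step : ∀ ψ φ, ψ ⬝ᵥ u₀ = 0 → v₀ ⬝ᵥ φ = 0 → ψ ∉ F ∙ ψ₀ → Elem X u₀ v₀ (pairF ψ φ) := fun ψ φ hψ hvφ hn => by
      obtain ⟨c, hc1, hc2⟩ := exists_dot (S := F ∙ ψ) (x := ψ₀) (fun hm => by
        obtain ⟨t, ht⟩ := Submodule.mem_span_singleton.1 hm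
        have ht0 : t ≠ 0 := fun e => hψ₀ (by rw [← ht, e, zero_smul])
        exact hn (Submodule.mem_span_singleton.2 ⟨t⁻¹, by rw [← ht, inv_smul_smul₀ ht0]⟩))
      have hcψ : ψ ⬝ᵥ c = 0 := hc1 ψ (Submodule.mem_span_singleton_self ψ)
      set S := uni (leftN (J := J) c ψ) with hS'
      have hfix : S (vecMulVec u₀ v₀) = vecMulVec u₀ v₀ := by
        rw [hS', left_apply hcψ, vecMul_vecMulVec, hψ, zero_smul, vec_zero, add_zero]
      have h1 := (hφall φ hvφ).move (inv_mem (hX.left_mem (J := J) hcψ))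
        (show S⁻¹ (vecMulVec u₀ v₀) = vecMulVec u₀ v₀ from (congrArg _ hfix).symm.trans (inv_apply S _))
      rw [inv_inv] at h1
      have h2 := h1.add (hφall φ hvφ).neg
      convert h2 using 1
      refine LinearMap.ext fun x => ?_
      show ψ ⬝ᵥ (x *ᵥ φ) = ψ₀ ⬝ᵥ (S x *ᵥ φ) + -(ψ₀ ⬝ᵥ (x *ᵥ φ))
      rw [hS', left_apply hcψ, add_mulVec, vecMulVec_mulVec, op_smul_eq_smul, dotProduct_add, dotProduct_smul,
        hc2, smul_eq_mul, mul_one, dotProduct_mulVec ψ x φ]
      ring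
    intro ψ φ hψ hvφ
    by_cases hn : ψ ∈ F ∙ ψ₀
    swap
    · exact step ψ φ hψ hvφ hn
    obtain ⟨t, rfl⟩ := Submodule.mem_span_singleton.1 hn
    rw [hsc]
    exact hφall _ (by rw [dotProduct_smul, hvφ, smul_zero])
  -- all centres
  have hall : ∀ u v ψ φ, u ≠ 0 → v ≠ 0 → ψ ⬝ᵥ u = 0 → v ⬝ᵥ φ = 0 → Elem X u v (pairF ψ φ) := by
    have moveU : ∀ u ψ φ, u ≠ 0 → ψ ⬝ᵥ u = 0 → v₀ ⬝ᵥ φ = 0 → Elem X u v₀ (pairF ψ φ) := fun u ψ φ hu hψ hvφ => by
      by_cases hl : u ∈ F ∙ u₀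
      · obtain ⟨t, rfl⟩ := Submodule.mem_span_singleton.1 hl
        have ht : t ≠ 0 := fun e => hu (by rw [e, zero_smul])
        rw [dotProduct_smul, smul_eq_mul, mul_eq_zero] at hψ
        have h1 := hall₀ (t • ψ) φ (by rw [smul_dotProduct, hψ.resolve_left ht, smul_zero]) hvφ
        refine ⟨by rw [pairF_vec, dotProduct_smul, hψ.resolve_left ht, smul_zero, zero_mul], ?_⟩
        have e : tvec (pairF (t • ψ) φ) (vecMulVec u₀ v₀) = tvec (pairF ψ φ) (vecMulVec (t • u₀) v₀) := by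
          rw [smul_vecMulVec, ← tvec_smul]
          congr 1
          exact LinearMap.ext fun x => smul_dotProduct t ψ _
        exact e ▸ h1.2
      have hn : u₀ ∉ F ∙ (u - u₀) := fun hm => by
        obtain ⟨t, ht⟩ := Submodule.mem_span_singleton.1 hm
        have ht0 : t ≠ 0 := fun e => hu₀ (by rw [← ht, e, zero_smul])
        refine hl (Submodule.mem_span_singleton.2 ⟨t⁻¹ + 1, ?_⟩)
        rw [add_smul, one_smul]
        nth_rw 1 [← ht]
        rw [inv_smul_smul₀ ht0, sub_add_cancel]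
      obtain ⟨π, hπ1, hπ2⟩ := exists_dot hn
      have hπ : π ⬝ᵥ (u - u₀) = 0 := by rw [dotProduct_comm]; exact hπ1 _ (Submodule.mem_span_singleton_self _)
      have hπ' : π ⬝ᵥ u₀ = 1 := by rw [dotProduct_comm, hπ2]
      set S := uni (leftN (J := J) (u - u₀) π) with hS'
      have hSu : S (vecMulVec u₀ v₀) = vecMulVec u v₀ := by
        rw [hS', left_apply hπ, vecMul_vecMulVec, hπ', one_smul, sub_vecMulVec, add_sub_cancel]
      set ψ' := ψ + (ψ ⬝ᵥ (u - u₀)) • π with hψ'd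
      have hψ' : ψ' ⬝ᵥ u₀ = 0 := by
        rw [hψ'd, add_dotProduct, smul_dotProduct, hπ', smul_eq_mul, mul_one, dotProduct_sub, hψ]
        ring
      have h1 := (hall₀ ψ' φ hψ' hvφ).move (hX.left_mem (J := J) hπ) hSu
      convert h1 using 1
      refine LinearMap.ext fun x => ?_
      show ψ ⬝ᵥ (x *ᵥ φ) = ψ' ⬝ᵥ (S⁻¹ x *ᵥ φ)
      obtain ⟨z, rfl⟩ := S.surjective x
      rw [inv_apply, hS', left_apply hπ, add_mulVec, vecMulVec_mulVec, op_smul_eq_smul, dotProduct_add, dotProduct_smul,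
        ← dotProduct_mulVec, hψ'd, add_dotProduct, smul_dotProduct, smul_eq_mul, smul_eq_mul]
      ring
    intro u v ψ φ hu hv hψ hvφ
    by_cases hl : v ∈ F ∙ v₀
    · obtain ⟨t, rfl⟩ := Submodule.mem_span_singleton.1 hl
      have ht : t ≠ 0 := fun e => hv (by rw [e, zero_smul])
      rw [smul_dotProduct, smul_eq_mul, mul_eq_zero] at hvφ
      have h1 := moveU (t • u) ψ φ (smul_ne_zero ht hu) (by rw [dotProduct_smul, hψ, smul_zero]) (hvφ.resolve_left ht)
      have e : vecMulVec u (t • v₀) = vecMulVec (t • u) v₀ := by rw [vecMulVec_smul, smul_vecMulVec]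
      exact ⟨e ▸ h1.1, e ▸ h1.2⟩
    have hn : v₀ ∉ F ∙ (v - v₀) := fun hm => by
      obtain ⟨t, ht⟩ := Submodule.mem_span_singleton.1 hm
      have ht0 : t ≠ 0 := fun e => hv₀ (by rw [← ht, e, zero_smul])
      refine hl (Submodule.mem_span_singleton.2 ⟨t⁻¹ + 1, ?_⟩)
      rw [add_smul, one_smul]
      nth_rw 1 [← ht]
      rw [inv_smul_smul₀ ht0, sub_add_cancel]
    obtain ⟨π, hπ1, hπ2⟩ := exists_dot hn
    have hπ : (v - v₀) ⬝ᵥ π = 0 := hπ1 _ (Submodule.mem_span_singleton_self _)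
    set R := uni (rightN (I := I) π (v - v₀)) with hR'
    have hRv : R (vecMulVec u v₀) = vecMulVec u v := by
      rw [hR', right_apply hπ, vecMulVec_mulVec, hπ2, MulOpposite.op_one, one_smul, vecMulVec_sub, add_sub_cancel]
    set φ' := φ + ((v - v₀) ⬝ᵥ φ) • π with hφ'd
    have hφ' : v₀ ⬝ᵥ φ' = 0 := by
      rw [hφ'd, dotProduct_add, dotProduct_smul, hπ2, smul_eq_mul, mul_one, sub_dotProduct, hvφ]
      ring
    have h1 := (moveU u ψ φ' hu hψ hφ').move (hX.right_mem (I := I) hπ) hRv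
    convert h1 using 1
    refine LinearMap.ext fun x => ?_
    show ψ ⬝ᵥ (x *ᵥ φ) = ψ ⬝ᵥ (R⁻¹ x *ᵥ φ')
    obtain ⟨z, rfl⟩ := R.surjective x
    rw [inv_apply, hR', right_apply hπ, add_mulVec, vecMulVec_mulVec, op_smul_eq_smul, hφ'd, mulVec_add, mulVec_smul]
  -- one vanishing pairing suffices
  have hcomm : ∀ {u u' : I → F} {v v' : J → F} {ψ₁ ψ : I → F} {φ₁ φ : J → F}, Elem X u v (pairF ψ₁ φ₁) →
      Elem X u' v' (pairF ψ φ) → (ψ ⬝ᵥ u) * (v ⬝ᵥ φ) = 0 → (ψ₁ ⬝ᵥ u') * (v' ⬝ᵥ φ₁) = 1 →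
      Elem X u v (pairF ψ φ) := fun {u u' v v' ψ₁ ψ φ₁ φ} h h' e0 e1 => by
    have := h.comm h' (by rw [pairF_vec, e0])
    rwa [pairF_vec, e1, one_smul] at this
  have hA : ∀ u v ψ φ, u ≠ 0 → v ≠ 0 → v ⬝ᵥ φ = 0 → Elem X u v (pairF ψ φ) := fun u v ψ φ hu hv hvφ => by
    by_cases hψ : ψ ⬝ᵥ u = 0
    · exact hall u v ψ φ hu hv hψ hvφ
    obtain ⟨u', hu', hψu'⟩ := exists_orth_one hI2 ψ
    have hu'n : u' ∉ F ∙ u := fun hm => by
      obtain ⟨t, rfl⟩ := Submodule.mem_span_singleton.1 hm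
      rw [dotProduct_smul, smul_eq_mul, mul_eq_zero] at hψu'
      exact hu' (by rw [hψu'.resolve_right hψ, zero_smul])
    obtain ⟨ψ₁, hψ₁, hψ₁'⟩ := exists_dot hu'n
    obtain ⟨a, ha1, ha2⟩ := exists_dot (S := ⊥) (x := v) (by simpa using hv)
    obtain ⟨v', hv'0, hv'φ, hv'a⟩ := exists_orth_pair hJ3 φ a
    have hv'n : v' ∉ F ∙ v := fun hm => by
      obtain ⟨t, rfl⟩ := Submodule.mem_span_singleton.1 hm
      rw [dotProduct_smul, dotProduct_comm a, ha2, smul_eq_mul, mul_one] at hv'a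
      exact hv'0 (by rw [hv'a, zero_smul])
    obtain ⟨φ₁, hφ₁, hφ₁'⟩ := exists_dot hv'n
    exact hcomm (hall u v ψ₁ φ₁ hu hv (by rw [dotProduct_comm]; exact hψ₁ u (Submodule.mem_span_singleton_self u))
      (hφ₁ v (Submodule.mem_span_singleton_self v))) (hall u' v' ψ φ hu' hv'0 hψu' (by rw [dotProduct_comm, hv'φ]))
      (by rw [hvφ, mul_zero]) (by rw [dotProduct_comm, hψ₁', hφ₁', one_mul])
  have hB : ∀ u v ψ φ, u ≠ 0 → v ≠ 0 → ψ ⬝ᵥ u = 0 → Elem X u v (pairF ψ φ) := fun u v ψ φ hu hv hψ => by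
    by_cases hvφ : v ⬝ᵥ φ = 0
    · exact hA u v ψ φ hu hv hvφ
    obtain ⟨v', hv'0, hv'φ⟩ := exists_orth_one (F := F) (by omega : 2 ≤ Fintype.card J) φ
    have hv'n : v' ∉ F ∙ v := fun hm => by
      obtain ⟨t, rfl⟩ := Submodule.mem_span_singleton.1 hm
      rw [dotProduct_smul, dotProduct_comm φ, smul_eq_mul, mul_eq_zero] at hv'φ
      exact hv'0 (by rw [hv'φ.resolve_right hvφ, zero_smul])
    obtain ⟨φ₁, hφ₁, hφ₁'⟩ := exists_dot hv'n
    obtain ⟨ψ₁, -, hψ₁'⟩ := exists_dot (S := ⊥) (x := u) (by simpa using hu)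
    exact hcomm (hA u v ψ₁ φ₁ hu hv (hφ₁ v (Submodule.mem_span_singleton_self v)))
      (hall u v' ψ φ hu hv'0 hψ (by rw [dotProduct_comm, hv'φ]))
      (by rw [hψ, zero_mul]) (by rw [dotProduct_comm, hψ₁', hφ₁', one_mul])
  -- pure centres, every functional
  have hpure : ∀ u v χ, χ (vecMulVec u v) = 0 → tvec χ (vecMulVec u v) ∈ X := fun u v χ hχ => by
    rcases eq_or_ne u 0 with rfl | hu
    · rw [zero_vecMulVec, tvec_zero_right]; exact one_mem X
    rcases eq_or_ne v 0 with rfl | hv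
    · rw [vec_zero, tvec_zero_right]; exact one_mem X
    obtain ⟨φ₁, -, hφ₁⟩ := exists_dot (S := ⊥) (x := v) (by simpa using hv)
    let K : I → J → F := fun i j => χ (Matrix.single i j 1)
    let k : I → F := fun i => χ (vecMulVec (Pi.single i 1) v)
    have hk : ∀ i, v ⬝ᵥ K i = k i := fun i => by
      show ∑ j, v j * χ (Matrix.single i j 1) = χ (vecMulVec (Pi.single i 1) v)
      have e : vecMulVec (Pi.single i 1) v = ∑ j, v j • Matrix.single i j (1 : F) := by
        refine Matrix.ext fun a b => ?_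
        rw [Matrix.sum_apply, vecMulVec_apply]
        simp [Matrix.single_apply, Pi.single_apply, ite_and, eq_comm]
      rw [e, map_sum]
      exact Finset.sum_congr rfl fun j _ => by rw [map_smul, smul_eq_mul]
    have hku : k ⬝ᵥ u = 0 := by
      have e : vecMulVec u v = ∑ i, u i • vecMulVec (Pi.single i 1) v := by
        refine Matrix.ext fun a b => ?_
        rw [Matrix.sum_apply]
        simp [vecMulVec_apply, Pi.single_apply, eq_comm]
      rw [← hχ, e, map_sum]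
      simp only [map_smul, smul_eq_mul, dotProduct]
      exact Finset.sum_congr rfl fun i _ => mul_comm _ _
    have hdec : χ = (∑ i, pairF (Pi.single i 1) (K i - k i • φ₁)) + pairF k φ₁ := by
      refine LinearMap.ext fun x => ?_
      induction x using Matrix.induction_on' with
      | h_zero => simp
      | h_add p q hp hq => rw [map_add, hp, hq, map_add]
      | h_std_basis i j r =>
        rw [← mul_one r, ← smul_eq_mul, ← Matrix.smul_single, map_smul, map_smul]
        congr 1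
        rw [LinearMap.add_apply, LinearMap.sum_apply]
        show K i j = ∑ i', Pi.single i' 1 ⬝ᵥ (Matrix.single i j (1 : F) *ᵥ (K i' - k i' • φ₁)) +
          k ⬝ᵥ (Matrix.single i j (1 : F) *ᵥ φ₁)
        simp [Matrix.single_mulVec, Pi.single_apply, dotProduct, Function.update_apply]
    refine (show Elem X u v χ from ?_).2
    rw [hdec]
    refine Elem.add ?_ (hB u v k φ₁ hu hv hku)
    refine Finset.sum_induction _ (Elem X u v) (fun _ _ => Elem.add) (Elem.zero u v) fun i _ => ?_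
    exact hA u v _ _ hu hv (by rw [dotProduct_sub, dotProduct_smul, hk, hφ₁, smul_eq_mul, mul_one, sub_self])
  -- all centres
  let G : Matrix I J F → Prop := fun y => ∀ χ : Dual F (Matrix I J F), χ y = 0 → tvec χ y ∈ X
  have hG : ∀ a, G a → ∀ u v, G (a + vecMulVec u v) := fun a ha u v χ hχ => by
    set b := vecMulVec u v with hb
    by_cases hab : a ∈ F ∙ b
    · obtain ⟨t, ht⟩ := Submodule.mem_span_singleton.1 hab
      have e : a + b = vecMulVec ((t + 1) • u) v := by rw [← ht, hb, smul_vecMulVec, add_smul, one_smul]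
      rw [e] at hχ ⊢
      exact hpure _ _ χ hχ
    obtain ⟨f, hf1, hf2⟩ := Submodule.exists_dual_map_eq_bot_of_notMem hab inferInstance
    set χ₂ : Dual F (Matrix I J F) := (f a)⁻¹ • f with hχ₂
    have hb0 : χ₂ b = 0 := by
      have hz : f b = 0 :=
        (Submodule.mem_bot F).1 (hf2 ▸ Submodule.mem_map_of_mem (Submodule.mem_span_singleton_self b))
      rw [hχ₂, LinearMap.smul_apply, hz, smul_zero]
    have ha1 : χ₂ a = 1 := by rw [hχ₂, LinearMap.smul_apply, smul_eq_mul, inv_mul_cancel₀ hf1]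
    set g := tvec χ₂ b with hg
    have hgX : g ∈ X := hpure u v χ₂ hb0
    have hga : g a = a + b := by rw [hg, tvec_apply hb0, ha1, one_smul]
    have h0' : (χ ∘ₗ g.toLinearMap) a = 0 := by
      show χ (g a) = 0
      rw [hga, hχ]
    have h1 := mul_mem (mul_mem hgX (ha _ h0')) (inv_mem hgX)
    convert h1 using 1
    refine LinearEquiv.ext fun x => ?_
    rw [LinearEquiv.mul_apply, LinearEquiv.mul_apply, tvec_apply h0', map_add, apply_inv, map_smul, hga, tvec_apply hχ]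
    show _ = x + χ (g (g⁻¹ x)) • (a + b)
    rw [apply_inv]
  intro χ y
  revert χ
  suffices ∀ y a, G a → G (a + y) by
    have := this y 0 (fun χ _ => by rw [tvec_zero_right]; exact one_mem X)
    rwa [zero_add] at this
  intro y
  induction y using Matrix.induction_on' with
  | h_zero => exact fun a ha => by rwa [add_zero]
  | h_add p q hp hq => exact fun a ha => by rw [← add_assoc]; exact hq _ (hp a ha)
  | h_std_basis i j r =>
    intro a ha
    rw [← mul_one r, ← smul_eq_mul, ← Matrix.smul_single, Matrix.single_eq_single_vecMulVec_single, ← smul_vecMulVec]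
    exact hG a ha _ _

/-- an element outside the decomposition group gives all transvections -/
theorem all_tvec (hX : Over X) {g : Matrix I J F ≃ₗ[F] Matrix I J F} (hg : g ∈ X) (hgN : ¬ InN g) :
    ∀ (χ : Dual F (Matrix I J F)) (y : Matrix I J F), χ y = 0 → tvec χ y ∈ X :=
  tvec_mem hX fun hS => hgN (inN_of_stabOK hX hS hg)

/-- a transvection does not preserve the decomposition -/
theorem exists_not_inN (h2 : 2 ≤ Fintype.card I) (hlt : Fintype.card I < Fintype.card J) :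
    ∃ (χ : Dual F (Matrix I J F)) (y : Matrix I J F), χ y = 0 ∧ ¬ InN (tvec χ y) := by
  classical
  obtain ⟨i, i', hii⟩ := Fintype.exists_pair_of_one_lt_card (α := I) (by omega)
  obtain ⟨j⟩ : Nonempty J := Fintype.card_pos_iff.1 (by omega)
  let χ : Dual F (Matrix I J F) :=
    { toFun := fun x => x i' j, map_add' := fun _ _ => rfl, map_smul' := fun _ _ => rfl }
  set y : Matrix I J F := Matrix.single i j 1 with hy
  have h0 : χ y = 0 := by
    show (Matrix.single i j (1 : F)) i' j = 0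
    simp [Matrix.single_apply, hii]
  refine ⟨χ, y, h0, fun hN => ?_⟩
  have hy0 : y ≠ 0 := fun e => by
    have := congrFun (congrFun e i) j
    simp [hy] at this
  obtain ⟨w, hw, hwR⟩ := hN.range_eq hlt (F ∙ y) (fun x => by
    rw [tvec_apply h0, add_sub_cancel_left]
    exact Submodule.smul_mem _ _ (Submodule.mem_span_singleton_self y))
    (by rw [finrank_span_singleton hy0]; omega) (fun e => by
      have h1 := congrArg (fun k : Matrix I J F ≃ₗ[F] Matrix I J F => k (Matrix.single i' j 1)) e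
      simp only [tvec_apply h0, LinearEquiv.coe_one, id_eq, add_eq_left] at h1
      have h1' : χ (Matrix.single i' j 1) = 1 := by
        show (Matrix.single i' j (1 : F)) i' j = 1
        simp
      rw [h1', one_smul] at h1
      exact hy0 h1)
  have h3 := finrank_pl (I := I) hw
  rw [hwR, finrank_span_singleton hy0] at h3
  omega

end Cfsg.Agent.ClassicalMax.Tensor
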