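import Cfsg.Agent.ClassicalMax.Transvection

/-!
The stabiliser of a tensor decomposition: matrices acted on from both sides, pure vectors, and the elements whose
displacement has the dimension of the smaller factor.
-/

set_option autoImplicit false
set_option linter.unusedSectionVars false
set_option linter.style.haveILetI false

namespace Cfsg.Agent.ClassicalMax.Tensor

open Module Matrix

variable {F : Type*} [Field F] {I J : Type} [Fintype I] [Fintype J] [DecidableEq I] [DecidableEq J]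

/-- a quadratic unipotent map, the identity if the square of `N` is not zero -/
noncomputable def uni (N : Matrix I J F →ₗ[F] Matrix I J F) : Matrix I J F ≃ₗ[F] Matrix I J F :=
  haveI := Classical.propDecidable (N ∘ₗ N = 0)
  if h : N ∘ₗ N = 0 then
    LinearEquiv.ofLinearMap (LinearMap.id + N) (LinearMap.id - N)
      (LinearMap.ext fun x => by have := LinearMap.congr_fun h x; simp only [LinearMap.comp_apply, LinearMap.zero_apply] at this; simp [this])
      (LinearMap.ext fun x => by have := LinearMap.congr_fun h x; simp only [LinearMap.comp_apply, LinearMap.zero_apply] at this; simp [this])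
  else 1

theorem uni_apply {N : Matrix I J F →ₗ[F] Matrix I J F} (h : N ∘ₗ N = 0) (x : Matrix I J F) : uni N x = x + N x := by
  rw [uni, dif_pos h]
  rfl

theorem conj_uni {N : Matrix I J F →ₗ[F] Matrix I J F} (h : N ∘ₗ N = 0) (g : Matrix I J F ≃ₗ[F] Matrix I J F)
    (x : Matrix I J F) : (g * uni N * g⁻¹) x = x + g (N (g⁻¹ x)) := by
  rw [LinearEquiv.mul_apply, LinearEquiv.mul_apply, uni_apply h, map_add, apply_inv]

theorem det_uni [Finite F] {N : Matrix I J F →ₗ[F] Matrix I J F} (h : N ∘ₗ N = 0) :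
    LinearMap.det (uni N).toLinearMap = 1 := by
  obtain ⟨p, hp⟩ := CharP.exists F
  haveI : Fact p.Prime := ⟨CharP.char_is_prime F p⟩
  have hk : ∀ (k : ℕ) x, ((uni N).toLinearMap ^ k) x = x + (k : F) • N x := fun k => by
    induction k with
    | zero => intro x; simp
    | succ k ih =>
      intro x
      rw [pow_succ, Module.End.mul_apply, LinearEquiv.coe_coe, uni_apply h, ih, map_add,
        show N (N x) = 0 from LinearMap.congr_fun h x, Nat.cast_succ]
      module
  have h1 : (uni N).toLinearMap ^ p = 1 := LinearMap.ext fun x => by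
    rw [hk, CharP.cast_eq_zero, zero_smul, add_zero]
    rfl
  have h2 := congrArg LinearMap.det h1
  rw [map_pow, map_one] at h2
  exact frobenius_inj F p (by rw [frobenius_def, map_one, h2])

/-- the pure vectors with the given second factor -/
def pl (v : J → F) : Submodule F (Matrix I J F) :=
  LinearMap.range ({ toFun := fun u => vecMulVec u v, map_add' := fun a b => add_vecMulVec a b v,
                     map_smul' := fun c a => smul_vecMulVec c a v } : (I → F) →ₗ[F] Matrix I J F)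

theorem mem_pl {v : J → F} {x : Matrix I J F} : x ∈ pl (I := I) v ↔ ∃ u, vecMulVec u v = x := Iff.rfl

theorem vec_mem_pl (u : I → F) (v : J → F) : vecMulVec u v ∈ pl (I := I) v := ⟨u, rfl⟩

theorem vecMulVec_left_inj {v : J → F} (hv : v ≠ 0) {a b : I → F} (h : vecMulVec a v = vecMulVec b v) : a = b := by
  obtain ⟨j, hj⟩ := Function.ne_iff.1 hv
  funext i
  exact mul_right_cancel₀ hj (congrFun (congrFun h i) j)

theorem finrank_pl {v : J → F} (hv : v ≠ 0) : finrank F (pl (I := I) v) = Fintype.card I := by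
  refine (LinearMap.finrank_range_of_inj ?_).trans (finrank_fintype_fun_eq_card F)
  exact fun a b h => vecMulVec_left_inj hv h

theorem pl_smul {v : J → F} {c : F} (hc : c ≠ 0) : pl (I := I) (c • v) = pl (I := I) v := by
  ext x
  rw [mem_pl, mem_pl]
  exact ⟨fun ⟨u, e⟩ => ⟨c • u, by rw [← e, smul_vecMulVec, vecMulVec_smul]⟩, fun ⟨u, e⟩ =>
    ⟨c⁻¹ • u, by rw [← e, smul_vecMulVec, vecMulVec_smul, inv_smul_smul₀ hc]⟩⟩

/-- multiplication by an elementary matrix on the right -/
def rightN (φ c : J → F) : Matrix I J F →ₗ[F] Matrix I J F where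
  toFun x := vecMulVec (x *ᵥ φ) c
  map_add' x y := by rw [add_mulVec, add_vecMulVec]
  map_smul' t x := by rw [smul_mulVec, smul_vecMulVec]; rfl

/-- multiplication by an elementary matrix on the left -/
def leftN (u ψ : I → F) : Matrix I J F →ₗ[F] Matrix I J F where
  toFun x := vecMulVec u (ψ ᵥ* x)
  map_add' x y := by rw [vecMul_add, vecMulVec_add]
  map_smul' t x := by rw [vecMul_smul, vecMulVec_smul]; rfl

theorem rightN_sq {φ c : J → F} (h : c ⬝ᵥ φ = 0) : rightN (I := I) φ c ∘ₗ rightN (I := I) φ c = 0 :=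
  LinearMap.ext fun x => by
    show vecMulVec (vecMulVec (x *ᵥ φ) c *ᵥ φ) c = 0
    rw [vecMulVec_mulVec, h]
    simp

theorem leftN_sq {u ψ : I → F} (h : ψ ⬝ᵥ u = 0) : leftN (J := J) u ψ ∘ₗ leftN (J := J) u ψ = 0 :=
  LinearMap.ext fun x => by
    show vecMulVec u (ψ ᵥ* vecMulVec u (ψ ᵥ* x)) = 0
    rw [vecMul_vecMulVec, h, zero_smul]
    ext i j
    simp [vecMulVec_apply]

theorem right_apply {φ c : J → F} (h : c ⬝ᵥ φ = 0) (x : Matrix I J F) :
    uni (rightN (I := I) φ c) x = x + vecMulVec (x *ᵥ φ) c := uni_apply (rightN_sq h) x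

theorem left_apply {u ψ : I → F} (h : ψ ⬝ᵥ u = 0) (x : Matrix I J F) :
    uni (leftN (J := J) u ψ) x = x + vecMulVec u (ψ ᵥ* x) := uni_apply (leftN_sq h) x

/-- the maps preserving the decomposition -/
def InN (g : Matrix I J F ≃ₗ[F] Matrix I J F) : Prop := ∃ (A : GL I F) (B : GL J F), ∀ x, g x = (A : Matrix I I F) * x * (B : Matrix J J F)

theorem InN.mul {g h : Matrix I J F ≃ₗ[F] Matrix I J F} (hg : InN g) (hh : InN h) : InN (g * h) := by
  obtain ⟨A, B, e⟩ := hg
  obtain ⟨A', B', e'⟩ := hh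
  refine ⟨A * A', B' * B, fun x => ?_⟩
  rw [LinearEquiv.mul_apply, e, e', Units.val_mul, Units.val_mul]
  simp only [Matrix.mul_assoc]

theorem InN.inv {g : Matrix I J F ≃ₗ[F] Matrix I J F} (hg : InN g) : InN g⁻¹ := by
  obtain ⟨A, B, e⟩ := hg
  refine ⟨A⁻¹, B⁻¹, fun x => g.injective ?_⟩
  rw [apply_inv, e]
  simp only [← Matrix.mul_assoc]
  rw [← Units.val_mul, mul_inv_cancel, Units.val_one, Matrix.one_mul, Matrix.mul_assoc, ← Units.val_mul,
    inv_mul_cancel, Units.val_one, Matrix.mul_one]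

theorem inN_right {φ c : J → F} (h : c ⬝ᵥ φ = 0) : InN (uni (rightN (I := I) φ c)) := by
  let N : Matrix J J F := vecMulVec φ c
  have hN : N * N = 0 := by rw [vecMulVec_mul_vecMulVec, h]; simp
  let B : GL J F := ⟨1 + N, 1 - N, by noncomm_ring [hN], by noncomm_ring [hN]⟩
  refine ⟨1, B, fun x => ?_⟩
  rw [right_apply h, Units.val_one, Matrix.one_mul]
  show _ = x * (1 + N)
  rw [Matrix.mul_add, Matrix.mul_one, mul_vecMulVec]

theorem inN_left {u ψ : I → F} (h : ψ ⬝ᵥ u = 0) : InN (uni (leftN (J := J) u ψ)) := by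
  let N : Matrix I I F := vecMulVec u ψ
  have hN : N * N = 0 := by rw [vecMulVec_mul_vecMulVec, h]; simp
  let A : GL I F := ⟨1 + N, 1 - N, by noncomm_ring [hN], by noncomm_ring [hN]⟩
  refine ⟨A, 1, fun x => ?_⟩
  rw [left_apply h, Units.val_one, Matrix.mul_one]
  show _ = (1 + N) * x
  rw [Matrix.add_mul, Matrix.one_mul, vecMulVec_mul]

/-- a subspace is annihilated by a non-zero vector when it is small -/
theorem exists_orth {K : Type*} [Fintype K] {V : Type*} [AddCommGroup V] [Module F V] [FiniteDimensional F V]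
    (L : (K → F) →ₗ[F] V) (h : finrank F V < Fintype.card K) : ∃ φ, φ ≠ 0 ∧ L φ = 0 := by
  obtain ⟨φ, hφ, h0⟩ := Submodule.exists_mem_ne_zero_of_ne_bot (p := LinearMap.ker L) (fun e => by
    have h1 := LinearMap.finrank_le_finrank_of_injective (LinearMap.ker_eq_bot.1 e)
    rw [finrank_fintype_fun_eq_card] at h1
    omega)
  exact ⟨φ, h0, hφ⟩

theorem exists_orth_pair {K : Type*} [Fintype K] (h : 3 ≤ Fintype.card K) (a b : K → F) :
    ∃ φ, φ ≠ 0 ∧ a ⬝ᵥ φ = 0 ∧ b ⬝ᵥ φ = 0 := by
  obtain ⟨φ, h0, h1⟩ := exists_orth ((dotProductBilin F F a).prod (dotProductBilin F F b))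
    (by rw [finrank_prod, finrank_self]; omega)
  exact ⟨φ, h0, congrArg Prod.fst h1, congrArg Prod.snd h1⟩

theorem exists_orth_one {K : Type*} [Fintype K] (h : 2 ≤ Fintype.card K) (a : K → F) :
    ∃ φ, φ ≠ 0 ∧ a ⬝ᵥ φ = 0 := by
  obtain ⟨φ, h0, h1⟩ := exists_orth (dotProductBilin F F a) (by rw [finrank_self]; omega)
  exact ⟨φ, h0, h1⟩

/-- separation by dot products -/
theorem exists_dot {K : Type*} [Fintype K] [DecidableEq K] {S : Submodule F (K → F)} {x : K → F} (hx : x ∉ S) :
    ∃ φ, (∀ s ∈ S, s ⬝ᵥ φ = 0) ∧ x ⬝ᵥ φ = 1 := by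
  obtain ⟨f, hf1, hf2⟩ := Submodule.exists_dual_map_eq_bot_of_notMem hx inferInstance
  have key : ∀ y, y ⬝ᵥ (fun k => (f x)⁻¹ * f (Pi.single k 1)) = (f x)⁻¹ * f y := fun y => by
    conv_rhs => rw [pi_eq_sum_univ y, map_sum, Finset.mul_sum]
    refine Finset.sum_congr rfl fun k _ => ?_
    rw [map_smul, smul_eq_mul]
    have e : (fun j => if k = j then (1 : F) else 0) = Pi.single k 1 := by
      funext j
      simp [Pi.single_apply, eq_comm]
    rw [e]
    ring
  refine ⟨_, fun s hs => ?_, by rw [key, inv_mul_cancel₀ hf1]⟩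
  rw [key, (Submodule.mem_bot F).1 (hf2 ▸ Submodule.mem_map_of_mem hs : f s ∈ (⊥ : Submodule F F)), mul_zero]

theorem dot_span {K : Type*} [Fintype K] [DecidableEq K] {x u : K → F} (h : ∀ φ, u ⬝ᵥ φ = 0 → x ⬝ᵥ φ = 0) :
    x ∈ F ∙ u := by
  by_contra hx
  obtain ⟨φ, h1, h2⟩ := exists_dot hx
  exact one_ne_zero (h2.symm.trans (h φ (h1 u (Submodule.mem_span_singleton_self u))))

/-- a matrix killed by the orthogonal of `v` is pure -/
theorem eq_vec {v φ₀ : J → F} (h0 : v ⬝ᵥ φ₀ = 1) {z : Matrix I J F} (h : ∀ φ, v ⬝ᵥ φ = 0 → z *ᵥ φ = 0) :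
    z = vecMulVec (z *ᵥ φ₀) v := by
  refine Matrix.ext fun i j => ?_
  have hj := congrFun (h (Pi.single j 1 - v j • φ₀) (by simp [h0, dotProduct_single])) i
  rw [mulVec_sub, mulVec_smul, mulVec_single_one, Pi.sub_apply, Pi.smul_apply, Pi.zero_apply, sub_eq_zero, smul_eq_mul] at hj
  rw [vecMulVec_apply, mul_comm]
  exact hj

/-- an element of the decomposition group with a small displacement displaces onto pure vectors -/
theorem InN.range_eq {g : Matrix I J F ≃ₗ[F] Matrix I J F} (hg : InN g) (hIJ : Fintype.card I < Fintype.card J)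
    (R : Submodule F (Matrix I J F)) (hR : ∀ x, g x - x ∈ R) (hd : finrank F R ≤ Fintype.card I) (hne : g ≠ 1) :
    ∃ w, w ≠ 0 ∧ pl (I := I) w = R := by
  obtain ⟨A, B, e⟩ := hg
  have hline : ∀ u : I → F, (A : Matrix I I F) *ᵥ u ∈ F ∙ u := fun u => by
    by_contra hu
    obtain ⟨ψ, hψ1, hψ2⟩ := exists_dot hu
    let D : (J → F) →ₗ[F] R :=
      { toFun := fun w => ⟨g (vecMulVec u w) - vecMulVec u w, hR _⟩
        map_add' := fun a b => Subtype.ext (by simp only [vecMulVec_add, map_add, Submodule.coe_add]; abel)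
        map_smul' := fun c a => Subtype.ext (by simp only [vecMulVec_smul, map_smul, SetLike.val_smul, RingHom.id_apply, smul_sub]) }
    obtain ⟨w, hw0, hw⟩ := exists_orth D (by omega)
    have h1 : g (vecMulVec u w) - vecMulVec u w = 0 := congrArg Subtype.val hw
    rw [e, mul_vecMulVec, vecMulVec_mul, sub_eq_zero] at h1
    have h2 := congrArg (ψ ᵥ* ·) h1
    simp only [vecMul_vecMulVec, dotProduct_comm ψ, hψ2, hψ1 u (Submodule.mem_span_singleton_self u), one_smul,
      zero_smul] at h2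
    have h3 : (w ᵥ* (B : Matrix J J F)) ᵥ* ((B⁻¹ : GL J F) : Matrix J J F) = 0 := by rw [h2, zero_vecMul]
    rw [vecMul_vecMul, ← Units.val_mul, mul_inv_cancel, Units.val_one, vecMul_one] at h3
    exact hw0 h3
  obtain ⟨a, ha⟩ : ∃ a : F, ∀ u, (A : Matrix I I F) *ᵥ u = a • u := by
    by_cases hI : Nonempty I
    swap
    · rw [not_nonempty_iff] at hI
      exact ⟨0, fun u => funext fun i => isEmptyElim i⟩
    obtain ⟨i₀⟩ := hI
    choose c hc using fun u => Submodule.mem_span_singleton.1 (hline u)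
    refine ⟨c (Pi.single i₀ 1), fun u => ?_⟩
    have key : ∀ u u' : I → F, LinearIndependent F ![u, u'] → c u = c u' := fun u u' hl => by
      have e1 := hc (u + u')
      rw [mulVec_add, ← hc u, ← hc u'] at e1
      obtain ⟨h1, h2⟩ := hl.eq_of_pair (s := c (u + u')) (t := c (u + u')) (s' := c u) (t' := c u')
        (by rw [← smul_add]; exact (hc (u + u')).trans (by rw [mulVec_add, hc, hc]))
      exact h1.symm.trans h2
    by_cases hm : LinearIndependent F ![Pi.single i₀ 1, u]
    · rw [← hc u, key _ _ hm]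
    · rw [LinearIndependent.pair_iff' (by intro h; simpa using congrFun h i₀)] at hm
      push Not at hm
      obtain ⟨s, rfl⟩ := hm
      rw [mulVec_smul, ← hc (Pi.single i₀ 1), smul_comm]
  have hg' : ∀ x, g x = x * (a • (B : Matrix J J F)) := fun x => by
    rw [e, Matrix.mul_smul, ← Matrix.smul_mul]
    congr 1
    refine Matrix.ext_of_mulVec_single fun j => ?_
    rw [← Matrix.mulVec_mulVec, ha, Matrix.smul_mulVec]
  obtain ⟨w₀, hw₀⟩ : ∃ w, w ᵥ* (a • (B : Matrix J J F)) ≠ w := by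
    by_contra hc
    push Not at hc
    refine hne (LinearEquiv.ext fun x => ?_)
    rw [hg']
    refine Matrix.ext fun i j => ?_
    exact congrFun (hc (x i)) j
  refine ⟨w₀ ᵥ* (a • (B : Matrix J J F)) - w₀, sub_ne_zero.2 hw₀, Submodule.eq_of_le_of_finrank_le ?_
    (hd.trans (finrank_pl (sub_ne_zero.2 hw₀)).ge)⟩
  rintro _ ⟨u, rfl⟩
  show vecMulVec u _ ∈ R
  have := hR (vecMulVec u w₀)
  rwa [hg', vecMulVec_mul, ← vecMulVec_sub] at this

end Cfsg.Agent.ClassicalMax.Tensor
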