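import Cfsg.Agent.ClassicalMax.Tensor.Basic
import Cfsg.Agent.ClassicalMax.RootPlanes
import Cfsg.Agent.Classical.AltBasis

/-!
An orthogonal space that is the tensor product of two symplectic spaces: the transvections of the factors, their
transitivity, and the spreading of root groups with pure centres.
-/

set_option autoImplicit false
set_option linter.unusedSectionVars false
set_option linter.style.haveILetI false

namespace Cfsg.Agent.ClassicalMax.Tensor

open Module Matrix QuadraticMap Cfsg.Agent.Classical Cfsg.Agent.Classical.Quad Cfsg.Agent.ClassicalMax.RootPlanes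

/-- the form with Gram matrix `G` -/
def gf {F K : Type*} [Field F] [Fintype K] (G : Matrix K K F) (a b : K → F) : F := a ⬝ᵥ (G *ᵥ b)

theorem sum_vecMulVec' {F I J K : Type*} [Field F] (s : Finset K) (a : K → I → F) (c : J → F) :
    vecMulVec (∑ i ∈ s, a i) c = ∑ i ∈ s, vecMulVec (a i) c := by
  classical
  induction s using Finset.induction_on with
  | empty => simp
  | insert x s hx ih => rw [Finset.sum_insert hx, Finset.sum_insert hx, add_vecMulVec, ih]

theorem vecMulVec_sum' {F I J K : Type*} [Field F] (s : Finset K) (a : I → F) (c : K → J → F) :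
    vecMulVec a (∑ i ∈ s, c i) = ∑ i ∈ s, vecMulVec a (c i) := by
  classical
  induction s using Finset.induction_on with
  | empty => ext i j; simp [vecMulVec_apply]
  | insert x s hx ih => rw [Finset.sum_insert hx, Finset.sum_insert hx, vecMulVec_add, ih]

section Gram

variable {F K : Type*} [Field F] [Fintype K] [DecidableEq K] {G : Matrix K K F}

theorem gf_add_left (a a' b : K → F) : gf G (a + a') b = gf G a b + gf G a' b := add_dotProduct _ _ _

theorem gf_add_right (a b b' : K → F) : gf G a (b + b') = gf G a b + gf G a b' := by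
  rw [gf, mulVec_add, dotProduct_add]; rfl

theorem gf_smul_left (t : F) (a b : K → F) : gf G (t • a) b = t * gf G a b := smul_dotProduct _ _ _

theorem gf_smul_right (t : F) (a b : K → F) : gf G a (t • b) = t * gf G a b := by
  rw [gf, mulVec_smul, dotProduct_smul]; rfl

theorem gf_sub_left (a a' b : K → F) : gf G (a - a') b = gf G a b - gf G a' b := sub_dotProduct _ _ _

theorem gf_sub_right (a b b' : K → F) : gf G a (b - b') = gf G a b - gf G a b' := by
  rw [gf, mulVec_sub, dotProduct_sub]; rfl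

theorem gf_neg_left (a b : K → F) : gf G (-a) b = -gf G a b := neg_dotProduct _ _

theorem gf_neg_right (a b : K → F) : gf G a (-b) = -gf G a b := by
  rw [gf, mulVec_neg, dotProduct_neg]; rfl

theorem gf_zero_left (b : K → F) : gf G 0 b = 0 := zero_dotProduct _

theorem gf_zero_right (a : K → F) : gf G a 0 = 0 := by rw [gf, mulVec_zero, dotProduct_zero]

/-- alternating and non-degenerate -/
structure IsSymp (G : Matrix K K F) : Prop where
  alt : ∀ a, gf G a a = 0
  nd : ∀ b, G *ᵥ b = 0 → b = 0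

namespace IsSymp

theorem swap (hG : IsSymp G) (a b : K → F) : gf G b a = -gf G a b := by
  have h := hG.alt (a + b)
  rw [gf_add_left, gf_add_right, gf_add_right, hG.alt a, hG.alt b, zero_add, add_zero] at h
  linear_combination h

theorem perp_symm (hG : IsSymp G) {a b : K → F} (h : gf G a b = 0) : gf G b a = 0 := by rw [hG.swap a b, h, neg_zero]

theorem surj (hG : IsSymp G) (φ : K → F) : ∃ b, G *ᵥ b = φ :=
  (LinearMap.injective_iff_surjective (f := Matrix.mulVecLin G)).1
    ((injective_iff_map_eq_zero _).2 fun b hb => hG.nd b hb) φ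

/-- separation -/
theorem exists_dual (hG : IsSymp G) {S : Submodule F (K → F)} {x : K → F} (hx : x ∉ S) :
    ∃ b, (∀ s ∈ S, gf G s b = 0) ∧ gf G x b = 1 := by
  obtain ⟨φ, h1, h2⟩ := exists_dot hx
  obtain ⟨b, rfl⟩ := hG.surj φ
  exact ⟨b, h1, h2⟩

theorem mem_span (hG : IsSymp G) {S : Submodule F (K → F)} {x : K → F}
    (h : ∀ b, (∀ s ∈ S, gf G s b = 0) → gf G x b = 0) : x ∈ S := by
  by_contra hx
  obtain ⟨b, h1, h2⟩ := hG.exists_dual hx
  exact one_ne_zero (h2.symm.trans (h b h1))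

theorem exists_pair (hG : IsSymp G) {a : K → F} (ha : a ≠ 0) : ∃ b, gf G a b = 1 := by
  obtain ⟨b, -, h⟩ := hG.exists_dual (S := ⊥) (x := a) (by simpa using ha)
  exact ⟨b, h⟩

theorem exists_perp (hG : IsSymp G) {S : Submodule F (K → F)} (h : finrank F S < Fintype.card K) :
    ∃ c, c ≠ 0 ∧ ∀ s ∈ S, gf G s c = 0 := by
  obtain ⟨c, hc, h0⟩ := exists_orth ((LinearMap.lcomp F F S.subtype).comp
    ((dotProductBilin F F).flip.comp (Matrix.mulVecLin G))) (by rw [Subspace.dual_finrank_eq]; exact h)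
  exact ⟨c, hc, fun s hs => LinearMap.congr_fun h0 ⟨s, hs⟩⟩

/-- non-orthogonal vectors in the orthogonal of a small subspace -/
theorem exists_pair_perp (hG : IsSymp G) {S : Submodule F (K → F)} (h : 2 * finrank F S < Fintype.card K) :
    ∃ w x, (∀ s ∈ S, gf G s w = 0) ∧ (∀ s ∈ S, gf G s x = 0) ∧ gf G w x = 1 := by
  let L : (K → F) →ₗ[F] Dual F S := (LinearMap.lcomp F F S.subtype).comp
    ((dotProductBilin F F).flip.comp (Matrix.mulVecLin G))
  have hL : ∀ c, c ∈ LinearMap.ker L ↔ ∀ s ∈ S, gf G s c = 0 := fun c =>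
    ⟨fun h s hs => LinearMap.congr_fun h ⟨s, hs⟩, fun h => LinearMap.ext fun s => h s s.2⟩
  obtain ⟨w, hw, hwS⟩ : ∃ w, w ∈ LinearMap.ker L ∧ w ∉ S := by
    by_contra hc
    push Not at hc
    have h1 := Submodule.finrank_mono (show LinearMap.ker L ≤ S from hc)
    have h2 := LinearMap.finrank_range_add_finrank_ker L
    have h3 := Submodule.finrank_le (LinearMap.range L)
    rw [Subspace.dual_finrank_eq] at h3
    rw [finrank_fintype_fun_eq_card] at h2
    omega
  obtain ⟨x, hx1, hx2⟩ := hG.exists_dual hwS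
  exact ⟨w, x, (hL w).1 hw, hx1, hx2⟩

end IsSymp

end Gram

variable {F : Type*} [Field F] {I J : Type} [Fintype I] [Fintype J] [DecidableEq I] [DecidableEq J]
  {Q : QuadraticForm F (Matrix I J F)} {J₁ : Matrix I I F} {J₂ : Matrix J J F}

/-- the orthogonal tensor product of two symplectic spaces -/
structure SympTensor (Q : QuadraticForm F (Matrix I J F)) (J₁ : Matrix I I F) (J₂ : Matrix J J F) : Prop where
  nd : (polarBilin Q).Nondegenerate
  h₁ : IsSymp J₁
  h₂ : IsSymp J₂
  pol : ∀ x a b, polar Q x (vecMulVec a b) = (J₁ *ᵥ a) ⬝ᵥ (x *ᵥ (J₂ *ᵥ b))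
  pure : ∀ a b, Q (vecMulVec a b) = 0
  two : 2 ≤ Fintype.card I
  lt : Fintype.card I + 2 ≤ Fintype.card J
  six : 6 ≤ Fintype.card J

/-- the transvection of the second factor -/
noncomputable def right' (J₂ : Matrix J J F) (c : J → F) (t : F) : Matrix I J F ≃ₗ[F] Matrix I J F :=
  uni (rightN (I := I) (J₂ *ᵥ c) (t • c))

/-- the transvection of the first factor -/
noncomputable def left' (J₁ : Matrix I I F) (u : I → F) (t : F) : Matrix I J F ≃ₗ[F] Matrix I J F :=
  uni (leftN (J := J) u (t • (J₁ *ᵥ u)))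

namespace SympTensor

theorem polar_left (hS : SympTensor Q J₁ J₂) (x : Matrix I J F) (a : I → F) (b : J → F) :
    polar Q x (vecMulVec a b) = gf J₁ (x *ᵥ (J₂ *ᵥ b)) a := by
  rw [hS.pol, gf, dotProduct_comm]

theorem polar_pure (hS : SympTensor Q J₁ J₂) (a c : I → F) (b d : J → F) :
    polar Q (vecMulVec a b) (vecMulVec c d) = gf J₁ a c * gf J₂ b d := by
  rw [hS.polar_left, vecMulVec_mulVec, op_smul_eq_smul, gf_smul_left, mul_comm]
  rfl

theorem polar_self_right (hS : SympTensor Q J₁ J₂) {a : I → F} {b d : J → F} (c : I → F) (h : gf J₂ b d = 0) :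
    polar Q (vecMulVec a b) (vecMulVec c d) = 0 := by rw [hS.polar_pure, h, mul_zero]

theorem polar_self_left (hS : SympTensor Q J₁ J₂) {a c : I → F} (b d : J → F) (h : gf J₁ a c = 0) :
    polar Q (vecMulVec a b) (vecMulVec c d) = 0 := by rw [hS.polar_pure, h, zero_mul]

theorem vec_dual (hS : SympTensor Q J₁ J₂) {x : Matrix I J F} {b : J → F}
    (h : ∀ a, polar Q x (vecMulVec a b) = 0) : x *ᵥ (J₂ *ᵥ b) = 0 := by
  by_contra hne
  obtain ⟨a, ha⟩ := hS.h₁.exists_pair hne
  exact one_ne_zero (ha.symm.trans ((hS.polar_left x a b).symm.trans (h a)))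

theorem right_perp (hS : SympTensor Q J₁ J₂) (c : J → F) (t : F) : (t • c) ⬝ᵥ (J₂ *ᵥ c) = 0 := by
  rw [smul_dotProduct, show c ⬝ᵥ (J₂ *ᵥ c) = 0 from hS.h₂.alt c, smul_zero]

theorem left_perp (hS : SympTensor Q J₁ J₂) (u : I → F) (t : F) : (t • (J₁ *ᵥ u)) ⬝ᵥ u = 0 := by
  rw [smul_dotProduct, dotProduct_comm, show u ⬝ᵥ (J₁ *ᵥ u) = 0 from hS.h₁.alt u, smul_zero]

theorem right'_apply (hS : SympTensor Q J₁ J₂) (c : J → F) (t : F) (x : Matrix I J F) :
    right' J₂ c t x = x + vecMulVec (x *ᵥ (J₂ *ᵥ c)) (t • c) := right_apply (hS.right_perp c t) x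

theorem left'_apply (hS : SympTensor Q J₁ J₂) (u : I → F) (t : F) (x : Matrix I J F) :
    left' J₁ u t x = x + vecMulVec u ((t • (J₁ *ᵥ u)) ᵥ* x) := left_apply (hS.left_perp u t) x

theorem right'_pure (hS : SympTensor Q J₁ J₂) (c : J → F) (t : F) (a : I → F) (b : J → F) :
    right' J₂ c t (vecMulVec a b) = vecMulVec a (b + (t * gf J₂ b c) • c) := by
  rw [hS.right'_apply, vecMulVec_mulVec, op_smul_eq_smul, smul_vecMulVec, vecMulVec_smul, smul_smul, mul_comm,
    vecMulVec_add, vecMulVec_smul]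
  rfl

theorem left'_pure (hS : SympTensor Q J₁ J₂) (u : I → F) (t : F) (a : I → F) (b : J → F) :
    left' J₁ u t (vecMulVec a b) = vecMulVec (a + (t * gf J₁ a u) • u) b := by
  rw [hS.left'_apply, vecMul_vecMulVec, smul_dotProduct, dotProduct_comm, vecMulVec_smul, add_vecMulVec, smul_vecMulVec]
  rfl

theorem right'_iso (hS : SympTensor Q J₁ J₂) (c : J → F) (t : F) : right' (I := I) J₂ c t ∈ oG Q := fun x => by
  rw [hS.right'_apply, vecMulVec_smul, map_add', polar_smul_right, hS.polar_left, hS.h₁.alt, Quad.map_smul', hS.pure]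
  simp

theorem left'_iso (hS : SympTensor Q J₁ J₂) (u : I → F) (t : F) : left' (J := J) J₁ u t ∈ oG Q := fun x => by
  have h1 : ∀ d : J → F, polar Q x (vecMulVec u d) = ((J₁ *ᵥ u) ᵥ* x) ⬝ᵥ (J₂ *ᵥ d) := fun d => by
    rw [hS.pol, dotProduct_mulVec]
  rw [hS.left'_apply, map_add', hS.pure, h1, smul_vecMul, mulVec_smul, dotProduct_smul,
    show ((J₁ *ᵥ u) ᵥ* x) ⬝ᵥ (J₂ *ᵥ ((J₁ *ᵥ u) ᵥ* x)) = 0 from hS.h₂.alt _, smul_zero]
  ring

end SympTensor

/-- the transvection of the second factor as an isometry -/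
noncomputable def rE (hS : SympTensor Q J₁ J₂) (c : J → F) (t : F) : oG Q := ⟨_, hS.right'_iso c t⟩

/-- the transvection of the first factor as an isometry -/
noncomputable def lE (hS : SympTensor Q J₁ J₂) (u : I → F) (t : F) : oG Q := ⟨_, hS.left'_iso u t⟩

theorem rE_apply (hS : SympTensor Q J₁ J₂) (c : J → F) (t : F) (x : Matrix I J F) :
    (rE hS c t).1 x = x + vecMulVec (x *ᵥ (J₂ *ᵥ c)) (t • c) := hS.right'_apply c t x

theorem lE_apply (hS : SympTensor Q J₁ J₂) (u : I → F) (t : F) (x : Matrix I J F) :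
    (lE hS u t).1 x = x + vecMulVec u ((t • (J₁ *ᵥ u)) ᵥ* x) := hS.left'_apply u t x

theorem rE_pure (hS : SympTensor Q J₁ J₂) (c : J → F) (t : F) (a : I → F) (b : J → F) :
    (rE hS c t).1 (vecMulVec a b) = vecMulVec a (b + (t * gf J₂ b c) • c) := hS.right'_pure c t a b

theorem lE_pure (hS : SympTensor Q J₁ J₂) (u : I → F) (t : F) (a : I → F) (b : J → F) :
    (lE hS u t).1 (vecMulVec a b) = vecMulVec (a + (t * gf J₁ a u) • u) b := hS.left'_pure u t a b

theorem ext_pure {g h : Matrix I J F →ₗ[F] Matrix I J F} (e : ∀ a b, g (vecMulVec a b) = h (vecMulVec a b)) : g = h := by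
  refine LinearMap.ext fun x => ?_
  induction x using Matrix.induction_on' with
  | h_zero => rw [map_zero, map_zero]
  | h_add p q hp hq => rw [map_add, map_add, hp, hq]
  | h_std_basis i j r =>
    rw [← mul_one r, ← smul_eq_mul, ← Matrix.smul_single, map_smul, map_smul,
      Matrix.single_eq_single_vecMulVec_single, e]

theorem ext_oG_pure {g h : oG Q} (e : ∀ a b, g.1 (vecMulVec a b) = h.1 (vecMulVec a b)) : g = h :=
  ext_oG fun x => LinearMap.congr_fun (ext_pure (g := g.1.toLinearMap) (h := h.1.toLinearMap) e) x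

/-- the gram matrix as a bilinear form -/
noncomputable def gB {K : Type} [Fintype K] [DecidableEq K] (G : Matrix K K F) : LinearMap.BilinForm F (K → F) :=
  LinearMap.mk₂ F (gf G) gf_add_left (fun c a b => by rw [gf_smul_left, smul_eq_mul]) gf_add_right
    (fun c a b => by rw [gf_smul_right, smul_eq_mul])

theorem exists_basis {K : Type} [Fintype K] [DecidableEq K] {G : Matrix K K F} (hG : IsSymp G) :
    ∃ (m : ℕ) (e f : Fin m → K → F), (∀ i j, gf G (e i) (e j) = 0) ∧ (∀ i j, gf G (f i) (f j) = 0) ∧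
      (∀ i j, gf G (e i) (f j) = if i = j then 1 else 0) ∧
      ∀ a, a = ∑ i, (gf G a (f i) • e i + (-gf G a (e i)) • f i) := by
  classical
  have hA : (gB G).IsAlt := fun a => hG.alt a
  have hW : Alt.NDon (gB G) ⊤ := fun w _ hw0 => by
    obtain ⟨b, hb⟩ := hG.exists_pair hw0
    exact ⟨b, trivial, by show gf G w b ≠ 0; rw [hb]; exact one_ne_zero⟩
  obtain ⟨m, e, f, hb, -⟩ := Alt.exists_sympBasis hA ⊤ hW
  refine ⟨m, e, f, hb.ee, hb.ff, hb.ef, fun a => ?_⟩
  have hspan := hb.span (Submodule.mem_top (x := a))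
  induction hspan using Submodule.span_induction with
  | mem x hx =>
    obtain ⟨s, rfl⟩ := hx
    rcases s with k | k
    · simp only [Sum.elim_inl]
      rw [Finset.sum_eq_single k]
      · rw [show gf G (e k) (f k) = 1 from (hb.ef k k).trans (if_pos rfl), show gf G (e k) (e k) = 0 from hb.ee k k]
        simp
      · intro j _ hj
        rw [show gf G (e k) (f j) = 0 from (hb.ef k j).trans (if_neg (Ne.symm hj)),
          show gf G (e k) (e j) = 0 from hb.ee k j]
        simp
      · simp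
    · simp only [Sum.elim_inr]
      rw [Finset.sum_eq_single k]
      · rw [show gf G (f k) (f k) = 0 from hb.ff k k, hG.swap (e k) (f k),
          show gf G (e k) (f k) = 1 from (hb.ef k k).trans (if_pos rfl)]
        simp
      · intro j _ hj
        rw [show gf G (f k) (f j) = 0 from hb.ff k j, hG.swap (e j) (f k),
          show gf G (e j) (f k) = 0 from (hb.ef j k).trans (if_neg hj)]
        simp
      · simp
  | zero => simp [gf_zero_left]
  | add x y _ _ hx hy =>
    conv_lhs => rw [hx, hy, ← Finset.sum_add_distrib]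
    refine Finset.sum_congr rfl fun i _ => ?_
    rw [gf_add_left, gf_add_left]
    module
  | smul c x _ hx =>
    conv_lhs => rw [hx, Finset.smul_sum]
    refine Finset.sum_congr rfl fun i _ => ?_
    rw [gf_smul_left, gf_smul_left]
    module

variable [Finite F] {H : Subgroup (oG Q)}

namespace SympTensor

theorem hdim (hS : SympTensor Q J₁ J₂) : 12 ≤ finrank F (Matrix I J F) := by
  rw [Module.finrank_matrix, finrank_self, mul_one]
  exact le_trans (by norm_num) (Nat.mul_le_mul hS.two hS.six)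

theorem sO_comm (hS : SympTensor Q J₁ J₂) {p w : Matrix I J F} (hp : Q p = 0) (hpw : polar Q p w = 0) :
    sO hp hpw ∈ commutator (oG Q) :=
  sO_mem_commutator hS.nd (Or.inr (by have := hS.hdim; omega)) hp hpw

end SympTensor

/-- a product of Siegel transformations with pure parameters -/
theorem prod_pair_apply (hS : SympTensor Q J₁ J₂) {ι : Type} [DecidableEq ι] (s : Finset ι) (p w : ι → I → F)
    (q r : ι → J → F) (hpw : ∀ i, polar Q (vecMulVec (p i) (q i)) (vecMulVec (w i) (r i)) = 0)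
    (hd : ∀ i ∈ s, ∀ j ∈ s, i ≠ j → polar Q (vecMulVec (p i) (q i)) (vecMulVec (p j) (q j)) = 0 ∧
      polar Q (vecMulVec (p i) (q i)) (vecMulVec (w j) (r j)) = 0 ∧
      polar Q (vecMulVec (w i) (r i)) (vecMulVec (w j) (r j)) = 0) :
    ∃ g ∈ commutator (oG Q), ∀ x, g.1 x = x + ∑ i ∈ s, (polar Q x (vecMulVec (w i) (r i)) • vecMulVec (p i) (q i) +
      (-polar Q x (vecMulVec (p i) (q i))) • vecMulVec (w i) (r i)) := by
  induction s using Finset.induction_on with
  | empty => exact ⟨1, one_mem _, fun x => by rw [oG_one_apply]; simp⟩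
  | @insert a s ha ih =>
    obtain ⟨g, hg, he⟩ := ih fun i hi j hj => hd i (Finset.mem_insert_of_mem hi) j (Finset.mem_insert_of_mem hj)
    refine ⟨sO (hS.pure _ _) (hpw a) * g, mul_mem (hS.sO_comm _ _) hg, fun x => ?_⟩
    rw [oG_mul_apply, he, Finset.sum_insert ha, sO_apply, hS.pure, zero_mul, neg_zero, zero_smul, add_zero]
    have e1 : ∀ y, (∀ i ∈ s, polar Q y (vecMulVec (p i) (q i)) = 0 ∧ polar Q y (vecMulVec (w i) (r i)) = 0) →
        polar Q (x + ∑ i ∈ s, (polar Q x (vecMulVec (w i) (r i)) • vecMulVec (p i) (q i) +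
          (-polar Q x (vecMulVec (p i) (q i))) • vecMulVec (w i) (r i))) y = polar Q x y := fun y hy => by
      rw [polar_add_left, add_eq_left, ← polarBilin_apply_apply, map_sum, LinearMap.sum_apply]
      refine Finset.sum_eq_zero fun i hi => ?_
      rw [polarBilin_apply_apply, polar_add_left, polar_smul_left, polar_smul_left, polar_comm Q _ y,
        polar_comm Q _ y, (hy i hi).1, (hy i hi).2, smul_zero, smul_zero, add_zero]
    have hne : ∀ i ∈ s, a ≠ i := fun i hi e => ha (e ▸ hi)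
    rw [e1 _ fun i hi => ⟨by
        have := (hd i (Finset.mem_insert_of_mem hi) a (Finset.mem_insert_self a s) (hne i hi).symm).2.1
        rw [polar_comm]; exact this,
      (hd a (Finset.mem_insert_self a s) i (Finset.mem_insert_of_mem hi) (hne i hi)).2.2⟩,
      e1 _ fun i hi => ⟨(hd a (Finset.mem_insert_self a s) i (Finset.mem_insert_of_mem hi) (hne i hi)).1,
        (hd a (Finset.mem_insert_self a s) i (Finset.mem_insert_of_mem hi) (hne i hi)).2.1⟩]
    abel

theorem rE_comm (hS : SympTensor Q J₁ J₂) (c : J → F) (t : F) : rE hS c t ∈ commutator (oG Q) := by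
  classical
  obtain ⟨m, e, f, hee, hff, hef, hexp⟩ := exists_basis hS.h₁
  obtain ⟨g, hg, hge⟩ := prod_pair_apply hS (Finset.univ : Finset (Fin m)) (fun i => t • e i) f (fun _ => c) (fun _ => c)
    (fun i => hS.polar_self_right _ (hS.h₂.alt c)) (fun i _ j _ _ => ⟨hS.polar_self_right _ (hS.h₂.alt c),
      hS.polar_self_right _ (hS.h₂.alt c), hS.polar_self_right _ (hS.h₂.alt c)⟩)
  suffices rE hS c t = g from this ▸ hg
  refine ext_oG fun x => ?_
  rw [rE_apply, hge]
  conv_lhs => rw [hexp (x *ᵥ (J₂ *ᵥ c))]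
  refine congrArg (x + ·) ?_
  rw [vecMulVec_smul, ← smul_vecMulVec, Finset.smul_sum]
  rw [sum_vecMulVec']
  refine Finset.sum_congr rfl fun i _ => ?_
  show vecMulVec (t • (gf J₁ (x *ᵥ (J₂ *ᵥ c)) (f i) • e i + (-gf J₁ (x *ᵥ (J₂ *ᵥ c)) (e i)) • f i)) c = _
  rw [smul_add, add_vecMulVec, hS.polar_left, hS.polar_left, gf_smul_right]
  simp only [smul_vecMulVec]
  module

theorem lE_comm (hS : SympTensor Q J₁ J₂) (u : I → F) (t : F) : lE hS u t ∈ commutator (oG Q) := by
  classical
  obtain ⟨m, e, f, hee, hff, hef, hexp⟩ := exists_basis hS.h₂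
  obtain ⟨g, hg, hge⟩ := prod_pair_apply hS (Finset.univ : Finset (Fin m)) (fun _ => t • u) (fun _ => u) e f
    (fun i => hS.polar_self_left _ _ (by rw [gf_smul_left, hS.h₁.alt, mul_zero]))
    (fun i _ j _ _ => ⟨hS.polar_self_left _ _ (by rw [gf_smul_left, gf_smul_right, hS.h₁.alt, mul_zero, mul_zero]),
      hS.polar_self_left _ _ (by rw [gf_smul_left, hS.h₁.alt, mul_zero]),
      hS.polar_self_left _ _ (hS.h₁.alt u)⟩)
  suffices lE hS u t = g from this ▸ hg
  refine ext_oG fun x => ?_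
  rw [lE_apply, hge, smul_vecMul, vecMulVec_smul]
  conv_lhs => rw [hexp ((J₁ *ᵥ u) ᵥ* x)]
  refine congrArg (x + ·) ?_
  rw [← smul_vecMulVec]
  rw [vecMulVec_sum']
  refine Finset.sum_congr rfl fun i _ => ?_
  show vecMulVec (t • u) (gf J₂ ((J₁ *ᵥ u) ᵥ* x) (f i) • e i + (-gf J₂ ((J₁ *ᵥ u) ᵥ* x) (e i)) • f i) = _
  rw [vecMulVec_add, hS.pol, hS.pol, mulVec_smul, smul_dotProduct]
  simp only [gf, dotProduct_mulVec, vecMulVec_smul, smul_vecMulVec, smul_eq_mul]
  module

/-- the subgroup contains the isometries of the decomposition that lie in the commutator subgroup -/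
def TLe (H : Subgroup (oG Q)) : Prop := ∀ g ∈ commutator (oG Q), InN g.1 → g ∈ H

theorem TLe.right (hS : SympTensor Q J₁ J₂) (hle : TLe H) (c : J → F) (t : F) : rE hS c t ∈ H :=
  hle _ (rE_comm hS c t) (inN_right (hS.right_perp c t))

theorem TLe.left (hS : SympTensor Q J₁ J₂) (hle : TLe H) (u : I → F) (t : F) : lE hS u t ∈ H :=
  hle _ (lE_comm hS u t) (inN_left (hS.left_perp u t))

theorem rE_inN (hS : SympTensor Q J₁ J₂) (c : J → F) (t : F) : InN (rE hS c t).1 := inN_right (hS.right_perp c t)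

theorem lE_inN (hS : SympTensor Q J₁ J₂) (u : I → F) (t : F) : InN (lE hS u t).1 := inN_left (hS.left_perp u t)

/-- transitivity of the second factor in the orthogonal of a subspace -/
theorem exists_right_move (hS : SympTensor Q J₁ J₂) (hle : TLe H) {S : Submodule F (J → F)} {b b' : J → F}
    (hb : ∀ s ∈ S, gf J₂ s b = 0) (hb' : ∀ s ∈ S, gf J₂ s b' = 0) (hbS : b ∉ S) (hb'S : b' ∉ S) :
    ∃ k ∈ H, InN k.1 ∧ (∀ a, k.1 (vecMulVec a b) = vecMulVec a b') ∧
      ∀ a, ∀ s ∈ S, k.1 (vecMulVec a s) = vecMulVec a s := by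
  have step : ∀ b b' : J → F, (∀ s ∈ S, gf J₂ s b = 0) → (∀ s ∈ S, gf J₂ s b' = 0) → gf J₂ b b' ≠ 0 →
      ∃ k ∈ H, InN k.1 ∧ (∀ a, k.1 (vecMulVec a b) = vecMulVec a b') ∧
        ∀ a, ∀ s ∈ S, k.1 (vecMulVec a s) = vecMulVec a s := fun b b' hb hb' h => by
    refine ⟨_, hle.right hS (b' - b) (gf J₂ b b')⁻¹, rE_inN hS _ _, fun a => ?_, fun a s hs => ?_⟩
    · rw [rE_pure, gf_sub_right, hS.h₂.alt, sub_zero, inv_mul_cancel₀ h, one_smul, add_sub_cancel]
    · rw [rE_pure, gf_sub_right, hb s hs, hb' s hs, sub_zero, mul_zero, zero_smul, add_zero]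
  by_cases h : gf J₂ b b' = 0
  swap
  · exact step b b' hb hb' h
  obtain ⟨x, hx1, hx2⟩ := hS.h₂.exists_dual hbS
  obtain ⟨y, hy1, hy2⟩ := hS.h₂.exists_dual hb'S
  obtain ⟨w, hw, h1, h2⟩ : ∃ w, (∀ s ∈ S, gf J₂ s w = 0) ∧ gf J₂ b w ≠ 0 ∧ gf J₂ b' w ≠ 0 := by
    by_cases hxy : gf J₂ b' x = 0
    · by_cases hyx : gf J₂ b y = 0
      · exact ⟨x + y, fun s hs => by rw [gf_add_right, hx1 s hs, hy1 s hs, add_zero],
          by rw [gf_add_right, hx2, hyx, add_zero]; exact one_ne_zero,
          by rw [gf_add_right, hy2, hxy, zero_add]; exact one_ne_zero⟩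
      · exact ⟨y, hy1, hyx, by rw [hy2]; exact one_ne_zero⟩
    · exact ⟨x, hx1, by rw [hx2]; exact one_ne_zero, hxy⟩
  obtain ⟨k₁, m₁, n₁, e₁, f₁⟩ := step b w hb hw h1
  obtain ⟨k₂, m₂, n₂, e₂, f₂⟩ := step w b' hw hb' (fun e => h2 (hS.h₂.perp_symm e))
  exact ⟨k₂ * k₁, mul_mem m₂ m₁, n₂.mul n₁, fun a => by rw [oG_mul_apply, e₁, e₂],
    fun a s hs => by rw [oG_mul_apply, f₁ a s hs, f₂ a s hs]⟩

theorem exists_right_line (hS : SympTensor Q J₁ J₂) (hle : TLe H) {b b' : J → F} (hb : b ≠ 0) (hb' : b' ≠ 0) :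
    ∃ k ∈ H, InN k.1 ∧ ∀ a, k.1 (vecMulVec a b) = vecMulVec a b' := by
  obtain ⟨k, h1, h2, h3, -⟩ := exists_right_move hS hle (S := ⊥) (b := b) (b' := b')
    (fun s hs => by rw [(Submodule.mem_bot F).1 hs, gf_zero_left]) (fun s hs => by rw [(Submodule.mem_bot F).1 hs, gf_zero_left])
    (by simpa using hb) (by simpa using hb')
  exact ⟨k, h1, h2, h3⟩

theorem exists_left_line (hS : SympTensor Q J₁ J₂) (hle : TLe H) {a a' : I → F} (ha : a ≠ 0) (ha' : a' ≠ 0) :
    ∃ k ∈ H, ∀ b, k.1 (vecMulVec a b) = vecMulVec a' b := by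
  have step : ∀ a a' : I → F, gf J₁ a a' ≠ 0 → ∃ k ∈ H, ∀ b, k.1 (vecMulVec a b) = vecMulVec a' b := fun a a' h =>
    ⟨_, hle.left hS (a' - a) (gf J₁ a a')⁻¹, fun b => by
      rw [lE_pure, gf_sub_right, hS.h₁.alt, sub_zero, inv_mul_cancel₀ h, one_smul, add_sub_cancel]⟩
  by_cases h : gf J₁ a a' = 0
  swap
  · exact step a a' h
  obtain ⟨x, hx⟩ := hS.h₁.exists_pair ha
  obtain ⟨y, hy⟩ := hS.h₁.exists_pair ha'
  obtain ⟨w, h1, h2⟩ : ∃ w, gf J₁ a w ≠ 0 ∧ gf J₁ a' w ≠ 0 := by
    by_cases hxy : gf J₁ a' x = 0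
    · by_cases hyx : gf J₁ a y = 0
      · exact ⟨x + y, by rw [gf_add_right, hx, hyx, add_zero]; exact one_ne_zero,
          by rw [gf_add_right, hy, hxy, zero_add]; exact one_ne_zero⟩
      · exact ⟨y, hyx, by rw [hy]; exact one_ne_zero⟩
    · exact ⟨x, by rw [hx]; exact one_ne_zero, hxy⟩
  obtain ⟨k₁, m₁, e₁⟩ := step a w h1
  obtain ⟨k₂, m₂, e₂⟩ := step w a' (fun e => h2 (hS.h₁.perp_symm e))
  exact ⟨k₂ * k₁, mul_mem m₂ m₁, fun b => by rw [oG_mul_apply, e₁, e₂]⟩

/-- a root group with two centres sharing the first factor gives all Siegel transformations -/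
theorem eo_le_of_row (hS : SympTensor Q J₁ J₂) (hle : TLe H) {u₀ : I → F} {v₀ w₀ : J → F} (hu₀ : u₀ ≠ 0)
    (hvw : gf J₂ v₀ w₀ = 0) (hind : w₀ ∉ F ∙ v₀) (hv₀ : v₀ ≠ 0) (hPl : Pl H (vecMulVec u₀ v₀) (vecMulVec u₀ w₀)) :
    eo Q ≤ H := by
  classical
  have hperp : ∀ v : J → F, ∀ s ∈ F ∙ v, ∀ {w : J → F}, gf J₂ v w = 0 → gf J₂ s w = 0 := fun v s hs {w} h => by
    obtain ⟨t, rfl⟩ := Submodule.mem_span_singleton.1 hs
    rw [gf_smul_left, h, mul_zero]
  -- all orthogonal pairs
  have k2 : ∀ u v w, u ≠ 0 → v ≠ 0 → gf J₂ v w = 0 → w ∉ F ∙ v → Pl H (vecMulVec u v) (vecMulVec u w) := by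
    intro u v w hu hv hvw' hw
    obtain ⟨k₁, m₁, e₁⟩ := exists_left_line hS hle hu₀ hu
    obtain ⟨k₂, m₂, n₂, e₂⟩ := exists_right_line hS hle (I := I) hv₀ hv
    have h1 := (hPl.conj m₁).conj m₂
    rw [e₁, e₁, e₂] at h1
    obtain ⟨A, B, hAB⟩ := n₂
    have hk : ∀ a b, k₂.1 (vecMulVec a b) = vecMulVec ((A : Matrix I I F) *ᵥ a) (b ᵥ* (B : Matrix J J F)) := fun a b => by
      rw [hAB, mul_vecMulVec, vecMulVec_mul]
    -- the image of `w₀`
    obtain ⟨w₁, hw₁⟩ : ∃ w₁, k₂.1 (vecMulVec u w₀) = vecMulVec u w₁ := by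
      obtain ⟨j, hj⟩ := Function.ne_iff.1 hv
      refine ⟨(((v₀ ᵥ* (B : Matrix J J F)) j) / v j)⁻¹ • (w₀ ᵥ* (B : Matrix J J F)), ?_⟩
      have hA : ((v₀ ᵥ* (B : Matrix J J F)) j / v j) • ((A : Matrix I I F) *ᵥ u) = u := by
        funext i
        have := congrFun (congrFun ((hk u v₀).symm.trans (e₂ u)) i) j
        rw [vecMulVec_apply, vecMulVec_apply] at this
        have hj' : v j ≠ 0 := hj
        rw [Pi.smul_apply, smul_eq_mul, div_mul_eq_mul_div, div_eq_iff hj']
        linear_combination this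
      have hne : (v₀ ᵥ* (B : Matrix J J F)) j / v j ≠ 0 := fun e => hu (by rw [← hA, e, zero_smul])
      rw [hk]
      conv_rhs => rw [← hA, smul_vecMulVec, vecMulVec_smul, smul_inv_smul₀ hne]
    rw [hw₁] at h1
    have hw₁v : w₁ ∉ F ∙ v := fun hm => hind (by
      obtain ⟨t, rfl⟩ := Submodule.mem_span_singleton.1 hm
      have h2 : k₂.1 (vecMulVec u w₀) = k₂.1 (vecMulVec u (t • v₀)) := by
        rw [hw₁, vecMulVec_smul, vecMulVec_smul, map_smul, e₂]
      have h3 := k₂.1.injective h2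
      obtain ⟨i, hi⟩ := Function.ne_iff.1 hu
      refine Submodule.mem_span_singleton.2 ⟨t, funext fun j => ?_⟩
      have := congrFun (congrFun h3 i) j
      rw [vecMulVec_apply, vecMulVec_apply] at this
      exact (mul_left_cancel₀ hi this).symm)
    have hvw₁ : gf J₂ v w₁ = 0 := by
      obtain ⟨x, hx⟩ := hS.h₁.exists_pair hu
      have h2 := polar_oG k₂ (vecMulVec x v₀) (vecMulVec u w₀)
      rw [e₂, hw₁, hS.polar_pure, hS.polar_pure, hvw, mul_zero, mul_eq_zero] at h2
      refine h2.resolve_left fun e => ?_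
      rw [hS.h₁.swap u x, hx] at e
      exact neg_ne_zero.2 one_ne_zero e
    obtain ⟨k₃, m₃, -, e₃, f₃⟩ := exists_right_move hS hle (S := F ∙ v) (b := w₁) (b' := w)
      (fun s hs => hperp v s hs hvw₁) (fun s hs => hperp v s hs hvw') hw₁v hw
    have h2 := h1.conj m₃
    rwa [e₃, f₃ u v (Submodule.mem_span_singleton_self v)] at h2
  -- the same vector of the second factor
  have k2' : ∀ u v w, u ≠ 0 → v ≠ 0 → gf J₂ v w = 0 → Pl H (vecMulVec u v) (vecMulVec u w) := fun u v w hu hv h => by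
    by_cases hw : w ∈ F ∙ v
    · obtain ⟨t, rfl⟩ := Submodule.mem_span_singleton.1 hw
      rw [vecMulVec_smul]
      exact (Pl.refl (hS.pure u v)).smul_right t
    · exact k2 u v w hu hv h hw
  have k1 : ∀ u v u', u ≠ 0 → v ≠ 0 → gf J₁ u u' ≠ 0 → ∀ x, gf J₂ v x = 0 → x ≠ 0 →
      Pl H (vecMulVec u v) (vecMulVec u' x) := fun u v u' hu hv huu x hvx hx => by
    have hu' : u' ≠ 0 := fun e => huu (by rw [e, gf_zero_right])
    obtain ⟨w, w', h1, h2, h3⟩ := hS.h₂.exists_pair_perp (S := Submodule.span F ({v, x} : Set (J → F))) (by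
      classical
      have := finrank_span_le_card (R := F) ({v, x} : Set (J → F))
      rw [Set.toFinset_insert, Set.toFinset_singleton] at this
      have h' := this.trans Finset.card_le_two
      have := hS.six
      omega)
    have hvw' := h1 v (Submodule.subset_span (Or.inl rfl))
    have hxw := h1 x (Submodule.subset_span (Or.inr rfl))
    have hvw₂ := h2 v (Submodule.subset_span (Or.inl rfl))
    have hxw₂ := h2 x (Submodule.subset_span (Or.inr rfl))
    refine (k2' u v w hu hv hvw').rule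
      (k2' u' w' x hu' (fun e => by rw [e, gf_zero_right] at h3; exact zero_ne_one h3) (hS.h₂.perp_symm hxw₂))
      (hS.polar_self_right _ hvw₂) (hS.polar_self_right _ hvx) (hS.polar_self_right _ (hS.h₂.perp_symm hxw)) ?_
    rw [hS.polar_pure, h3, mul_one]
    exact huu
  have k1' : ∀ u v u' x, u ≠ 0 → v ≠ 0 → gf J₂ v x = 0 → Pl H (vecMulVec u v) (vecMulVec u' x) := by
    intro u v u' x hu hv hvx
    rcases eq_or_ne x 0 with rfl | hx
    · have e : ∀ a : I → F, vecMulVec a (0 : J → F) = 0 := fun a => by ext i j; simp [vecMulVec_apply]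
      rw [e, ← e u]
      exact k2' u v 0 hu hv (gf_zero_right v)
    by_cases huu : gf J₁ u u' = 0
    swap
    · exact k1 u v u' hu hv huu x hvx hx
    obtain ⟨z, hz⟩ := hS.h₁.exists_pair hu
    have h1 := k1 u v (u' + z) hu hv (by rw [gf_add_right, huu, hz, zero_add]; exact one_ne_zero) x hvx hx
    have h2 := k1 u v (-z) hu hv (by rw [gf_neg_right, hz]; exact neg_ne_zero.2 one_ne_zero) x hvx hx
    have h3 := h1.add_right h2 (hS.polar_self_right _ (hS.h₂.alt x))
    rwa [← add_vecMulVec, add_neg_cancel_right] at h3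
  have k3 : ∀ u v v', u ≠ 0 → v ≠ 0 → Pl H (vecMulVec u v) (vecMulVec u v') := fun u v v' hu hv => by
    obtain ⟨w, x, h1, h2, h3⟩ := hS.h₂.exists_pair_perp (S := Submodule.span F ({v, v'} : Set (J → F))) (by
      classical
      have := finrank_span_le_card (R := F) ({v, v'} : Set (J → F))
      rw [Set.toFinset_insert, Set.toFinset_singleton] at this
      have h' := this.trans Finset.card_le_two
      have := hS.six
      omega)
    obtain ⟨z, hz⟩ := hS.h₁.exists_pair hu
    have hx0 : x ≠ 0 := fun e => by rw [e, gf_zero_right] at h3; exact zero_ne_one h3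
    refine (k1' u v u w hu hv (h1 v (Submodule.subset_span (Or.inl rfl)))).rule
      (k1' z x u v' (fun e => by rw [e, gf_zero_right] at hz; exact zero_ne_one hz) hx0
        (hS.h₂.perp_symm (h2 v' (Submodule.subset_span (Or.inr rfl)))))
      (hS.polar_self_right _ (h2 v (Submodule.subset_span (Or.inl rfl))))
      (hS.polar_self_left _ _ (hS.h₁.alt u))
      (hS.polar_self_left _ _ (hS.h₁.alt u)) ?_
    rw [hS.polar_pure, hz, h3, mul_one]
    exact one_ne_zero
  have k4 : ∀ u v u' v', u ≠ 0 → v ≠ 0 → gf J₁ u u' = 0 → Pl H (vecMulVec u v) (vecMulVec u' v') :=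
      fun u v u' v' hu hv huu => by
    by_cases hua : u' ∈ F ∙ u
    · obtain ⟨t, ht⟩ := Submodule.mem_span_singleton.1 hua
      rw [← ht, smul_vecMulVec]
      exact (k3 u v v' hu hv).smul_right t
    obtain ⟨w, x, h1, h2, h3⟩ := hS.h₂.exists_pair_perp (S := Submodule.span F ({v, v'} : Set (J → F))) (by
      classical
      have := finrank_span_le_card (R := F) ({v, v'} : Set (J → F))
      rw [Set.toFinset_insert, Set.toFinset_singleton] at this
      have h' := this.trans Finset.card_le_two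
      have := hS.six
      omega)
    obtain ⟨z, hz⟩ := hS.h₁.exists_pair hu
    have hx0 : x ≠ 0 := fun e => by rw [e, gf_zero_right] at h3; exact zero_ne_one h3
    have hz0 : z ≠ 0 := fun e => by rw [e, gf_zero_right] at hz; exact zero_ne_one hz
    refine (k1' u v u w hu hv (h1 v (Submodule.subset_span (Or.inl rfl)))).rule
      (k1' z x u' v' hz0 hx0 (hS.h₂.perp_symm (h2 v' (Submodule.subset_span (Or.inr rfl)))))
      (hS.polar_self_right _ (h2 v (Submodule.subset_span (Or.inl rfl))))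
      (hS.polar_self_left _ _ huu) (hS.polar_self_left _ _ huu) ?_
    rw [hS.polar_pure, hz, h3, mul_one]
    exact one_ne_zero
  have hfull : ∀ u v, u ≠ 0 → v ≠ 0 → Full H (vecMulVec u v) := fun u v hu hv => by
    refine full_of_tS (hS.pure u v) fun x hx => ?_
    obtain ⟨v', hv'⟩ := hS.h₂.exists_pair hv
    -- split along the line of `v'`
    set a := x *ᵥ (J₂ *ᵥ v) with ha
    have hau : gf J₁ a u = 0 := by rw [ha, ← hS.polar_left, QuadraticMap.polar_comm, hx]
    have hr : gf J₂ v' v = -1 := by rw [hS.h₂.swap v v', hv']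
    set y := x + vecMulVec a v' with hy
    have hyv : y *ᵥ (J₂ *ᵥ v) = 0 := by
      rw [hy, add_mulVec, vecMulVec_mulVec, op_smul_eq_smul, ← ha, show v' ⬝ᵥ (J₂ *ᵥ v) = -1 from hr,
        neg_one_smul, add_neg_cancel]
    have hrow : y = ∑ i, vecMulVec (Pi.single i 1) (fun j => y i j) := by
      refine Matrix.ext fun i j => ?_
      rw [Matrix.sum_apply]
      simp [vecMulVec_apply, Pi.single_apply, eq_comm]
    have h1 : y ∈ tS H (hS.pure u v) := by
      rw [hrow]
      refine Submodule.sum_mem _ fun i _ => mem_tS (k1' u v _ _ hu hv (hS.h₂.perp_symm ?_))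
      exact congrFun hyv i
    have h2 : vecMulVec a v' ∈ tS H (hS.pure u v) := mem_tS (k4 u v a v' hu hv (hS.h₁.perp_symm hau))
    rw [show x = y + (-1 : F) • vecMulVec a v' by rw [hy]; module]
    exact Submodule.add_mem _ h1 (Submodule.smul_mem _ _ h2)
  obtain ⟨u', hu'⟩ := hS.h₁.exists_pair hu₀
  obtain ⟨v', hv'⟩ := hS.h₂.exists_pair hv₀
  refine eo_le hS.nd (by have := hS.hdim; omega) (hfull u₀ v₀ hu₀ hv₀)
    (hfull u' v' (fun e => by rw [e, gf_zero_right] at hu'; exact zero_ne_one hu')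
      (fun e => by rw [e, gf_zero_right] at hv'; exact zero_ne_one hv')) ?_
  rw [hS.polar_pure, hu', hv', mul_one]
  exact one_ne_zero

end Cfsg.Agent.ClassicalMax.Tensor
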