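import Cfsg.Agent.ClassicalMax.Tensor.SympStab

/-!
An overgroup of the stabiliser of a decomposition into two symplectic factors that contains a further isometry
contains every Siegel transformation.
-/

set_option autoImplicit false
set_option linter.unusedSectionVars false
set_option linter.style.haveILetI false

namespace Cfsg.Agent.ClassicalMax.Tensor

open Module Matrix QuadraticMap Cfsg.Agent.Classical Cfsg.Agent.Classical.Quad Cfsg.Agent.ClassicalMax.RootPlanes

variable {F : Type*} [Field F] [Finite F] {I J : Type} [Fintype I] [Fintype J] [DecidableEq I] [DecidableEq J]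
  {Q : QuadraticForm F (Matrix I J F)} {J₁ : Matrix I I F} {J₂ : Matrix J J F} {H : Subgroup (oG Q)}

theorem map_pl_of_forall {k : Matrix I J F ≃ₗ[F] Matrix I J F} {v w : J → F}
    (h : ∀ a, k (vecMulVec a v) = vecMulVec a w) :
    (pl (I := I) v).map (k : Matrix I J F →ₗ[F] Matrix I J F) = pl (I := I) w := by
  ext x
  constructor
  · rintro ⟨_, ⟨u, rfl⟩, rfl⟩
    exact ⟨u, (h u).symm⟩
  · rintro ⟨u, rfl⟩
    exact ⟨_, vec_mem_pl u v, h u⟩

/-- the overgroup contains every Siegel transformation -/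
theorem eo_le_of_not_inN (hS : SympTensor Q J₁ J₂) (hq : Fintype.card I = 2 → 3 ≤ Nat.card F) (hle : TLe H) {g : oG Q}
    (hg : g ∈ H) (hgN : ¬ InN g.1) : eo Q ≤ H := by
  classical
  by_contra hne
  haveI : Finite (Matrix I J F) := Module.finite_of_finite F
  haveI : Finite (Matrix I J F ≃ₗ[F] Matrix I J F) :=
    Finite.of_injective (fun g => (g : Matrix I J F → Matrix I J F)) DFunLike.coe_injective
  have h2 := hS.two
  have hlt : Fintype.card I < Fintype.card J := by have := hS.lt; omega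
  have hmaps : ∀ g ∈ H, ∀ w v : J → F, w ≠ 0 → v ≠ 0 →
      (pl (I := I) w).map (g.1 : Matrix I J F →ₗ[F] Matrix I J F) = pl (I := I) v → InN g.1 := by
    intro g hg w v hw hv he
    obtain ⟨k, hk, hkN, hke⟩ := exists_right_line hS hle (I := I) hv hw
    by_contra hgN
    refine hne (stab_done hS hq hle (mul_mem hk hg) (fun hN => hgN ?_) hw fun a => ?_)
    · have := hkN.inv.mul hN
      rwa [show k.1⁻¹ * (k * g).1 = g.1 from inv_mul_cancel_left k.1 g.1] at this
    · have h1 : g.1 (vecMulVec a w) ∈ pl (I := I) v := he ▸ ⟨_, vec_mem_pl a w, rfl⟩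
      obtain ⟨y, hy⟩ := h1
      have hy' : vecMulVec y v = g.1 (vecMulVec a w) := hy
      exact ⟨y, by rw [oG_mul_apply, ← hy', hke]⟩
  -- a conjugate of a transvection of the second factor is never in the decomposition group
  have hconj : ∀ g ∈ H, ¬ InN g.1 → ∀ c : J → F, c ≠ 0 →
      g⁻¹ * rE hS c 1 * g ∈ H ∧ ¬ InN (g⁻¹ * rE hS c 1 * g).1 := by
    intro g hg hgN c hc
    refine ⟨mul_mem (mul_mem (inv_mem hg) (hle.right hS c 1)) hg, fun hN => hgN ?_⟩
    set T := rE hS c 1 with hT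
    set R := (pl (I := I) c).map ((g⁻¹).1 : Matrix I J F →ₗ[F] Matrix I J F) with hRd
    have hR : ∀ x, (g⁻¹ * T * g).1 x - x ∈ R := fun x => by
      refine ⟨vecMulVec (g.1 x *ᵥ (J₂ *ᵥ c)) c, vec_mem_pl _ _, ?_⟩
      rw [oG_mul_apply, oG_mul_apply, hT, rE_apply, one_smul, map_add,
        show (g⁻¹).1 (g.1 x) = x from g.1.symm_apply_apply x, add_sub_cancel_left]
      rfl
    have hne1 : (g⁻¹ * T * g).1 ≠ 1 := fun e => by
      have eT : T = 1 := by
        have e' : g⁻¹ * T * g = 1 := Subtype.ext e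
        rw [show T = g * (g⁻¹ * T * g) * g⁻¹ by group, e']
        group
      obtain ⟨b, hb⟩ := hS.h₂.exists_pair hc
      obtain ⟨a, ha, -⟩ := exists_orth_one (F := F) (K := I) h2 0
      have h1 := congrArg (fun k : oG Q => k.1 (vecMulVec a b) *ᵥ (J₂ *ᵥ b)) eT
      simp only [hT, rE_pure, oG_one_apply, vec_J, gf_add_left, gf_smul_left, hS.h₂.alt, hb, hS.h₂.swap c b,
        zero_add, mul_one, one_mul, neg_smul, zero_smul, one_smul, neg_eq_zero, gf_neg_left] at h1
      exact ha h1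
    obtain ⟨w, hw, hwR⟩ := hN.range_eq hlt R hR (by rw [hRd, LinearEquiv.finrank_map_eq, finrank_pl hc]) hne1
    refine hmaps g hg w c hw hc ?_
    rw [hwR, hRd, ← Submodule.map_comp,
      show (g.1 : Matrix I J F →ₗ[F] Matrix I J F).comp ((g⁻¹).1 : Matrix I J F →ₗ[F] Matrix I J F) = LinearMap.id from
        LinearMap.ext fun z => g.1.apply_symm_apply z, Submodule.map_id]
  let f : oG Q × (J → F) × (J → F) → ℕ := fun t =>
    finrank F ((pl (I := I) t.2.1).map (t.1.1 : Matrix I J F →ₗ[F] Matrix I J F) ⊓ pl (I := I) t.2.2 :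
      Submodule F (Matrix I J F))
  let P : Set (oG Q × (J → F) × (J → F)) := {t | t.1 ∈ H ∧ ¬ InN t.1.1 ∧ t.2.1 ≠ 0 ∧ t.2.2 ≠ 0}
  -- a positive intersection
  obtain ⟨w₀, hw₀⟩ : ∃ w : J → F, w ≠ 0 := by
    obtain ⟨φ, h0, -⟩ := exists_orth_one (F := F) (K := J) (by omega) 0
    exact ⟨φ, h0⟩
  obtain ⟨u₀, hu₀⟩ : ∃ u : I → F, u ≠ 0 := by
    obtain ⟨φ, h0, -⟩ := exists_orth_one (F := F) (K := I) h2 0
    exact ⟨φ, h0⟩
  obtain ⟨c₀, hc₀, hc₀e⟩ := exists_orth ((Matrix.mulVecLin (g.1 (vecMulVec u₀ w₀))).comp (Matrix.mulVecLin J₂))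
    (by rw [finrank_fintype_fun_eq_card]; exact hlt)
  obtain ⟨hg₀H, hg₀N⟩ := hconj g hg hgN c₀ hc₀
  have hpos : 0 < f (g⁻¹ * rE hS c₀ 1 * g, w₀, w₀) := by
    refine Submodule.one_le_finrank_iff.2 fun e => hu₀ ?_
    have hm : vecMulVec u₀ w₀ ∈ (⊥ : Submodule F (Matrix I J F)) := by
      rw [← e]
      refine ⟨⟨_, vec_mem_pl u₀ w₀, ?_⟩, vec_mem_pl u₀ w₀⟩
      show (g⁻¹ * rE hS c₀ 1 * g).1 (vecMulVec u₀ w₀) = _
      have h0 : g.1 (vecMulVec u₀ w₀) *ᵥ (J₂ *ᵥ c₀) = 0 := hc₀e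
      rw [oG_mul_apply, oG_mul_apply, rE_apply, h0, zero_vecMulVec, add_zero]
      exact g.1.symm_apply_apply _
    exact vecMulVec_left_inj hw₀ (by rw [(Submodule.mem_bot F).1 hm, zero_vecMulVec])
  obtain ⟨⟨h, w, v⟩, ⟨hh, hhN, hw, hv⟩, hmax⟩ :=
    Set.exists_max_image P f P.toFinite ⟨(_, w₀, w₀), hg₀H, hg₀N, hw₀, hw₀⟩
  dsimp only at hh hhN hw hv
  set C := (pl (I := I) w).map (h.1 : Matrix I J F →ₗ[F] Matrix I J F) with hC
  obtain ⟨z, hzC, hzv⟩ : ∃ z ∈ C, z ∉ pl (I := I) v := by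
    by_contra hc
    push Not at hc
    refine hhN (hmaps h hh w v hw hv (Submodule.eq_of_le_of_finrank_le hc ?_))
    rw [LinearEquiv.finrank_map_eq, finrank_pl hw, finrank_pl hv]
  let Lz : (J → F) →ₗ[F] F × (I → F) := (gB J₂ v).prod ((Matrix.mulVecLin z).comp (Matrix.mulVecLin J₂))
  obtain ⟨c, hc, hce⟩ := exists_orth Lz (by
    rw [finrank_prod, finrank_self, finrank_fintype_fun_eq_card]
    have := hS.lt
    omega)
  have hvc : gf J₂ v c = 0 := congrArg Prod.fst hce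
  have hzc : z *ᵥ (J₂ *ᵥ c) = 0 := congrArg Prod.snd hce
  obtain ⟨hh', hh'N⟩ := hconj h hh hhN c hc
  set T := rE hS c 1 with hT
  have h1 := hmax (h⁻¹ * T * h, w, w) ⟨hh', hh'N, hw, hw⟩
  have hlt' : (C ⊓ pl (I := I) v : Submodule F (Matrix I J F)) <
      C.map (T.1 : Matrix I J F →ₗ[F] Matrix I J F) ⊓ C := by
    have hfix : ∀ x ∈ pl (I := I) v, T.1 x = x := by
      rintro _ ⟨u, rfl⟩
      show T.1 (vecMulVec u v) = vecMulVec u v
      rw [hT, rE_pure, hvc, mul_zero, zero_smul, add_zero]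
    have hzT : T.1 z = z := by rw [hT, rE_apply, hzc, zero_vecMulVec, add_zero]
    refine lt_of_le_of_ne (fun x hx => ⟨⟨x, hx.1, hfix x hx.2⟩, hx.1⟩) fun e => hzv ?_
    have hTz : z ∈ C.map (T.1 : Matrix I J F →ₗ[F] Matrix I J F) ⊓ C := ⟨⟨z, hzC, hzT⟩, hzC⟩
    rw [← e] at hTz
    exact hTz.2
  have h3 : f (h⁻¹ * T * h, w, w) = finrank F (C.map (T.1 : Matrix I J F →ₗ[F] Matrix I J F) ⊓ C :
      Submodule F (Matrix I J F)) := by
    show finrank F ((pl (I := I) w).map ((h⁻¹ * T * h : oG Q).1 : Matrix I J F →ₗ[F] Matrix I J F) ⊓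
      pl (I := I) w : Submodule F (Matrix I J F)) = _
    have e : (h.1 : Matrix I J F →ₗ[F] Matrix I J F).comp
        ((h⁻¹ * T * h : oG Q).1 : Matrix I J F →ₗ[F] Matrix I J F) =
        (T.1 : Matrix I J F →ₗ[F] Matrix I J F).comp (h.1 : Matrix I J F →ₗ[F] Matrix I J F) :=
      LinearMap.ext fun x => h.1.apply_symm_apply _
    rw [← LinearEquiv.finrank_map_eq h.1, Submodule.map_inf _ h.1.injective, ← Submodule.map_comp, e, Submodule.map_comp]
  rw [h3] at h1
  exact absurd (Submodule.finrank_lt_finrank_of_lt hlt') (not_lt.2 h1)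

/-- the commutator subgroup does not preserve the decomposition -/
theorem exists_comm_not_inN (hS : SympTensor Q J₁ J₂) : ∃ g ∈ commutator (oG Q), ¬ InN g.1 := by
  classical
  obtain ⟨u, hu, -⟩ := exists_orth_one (F := F) (K := I) hS.two 0
  obtain ⟨v, hv, -⟩ := exists_orth_one (F := F) (K := J) (by have := hS.six; omega) 0
  obtain ⟨d, x, hd, -, hx, -, hdx⟩ := hS.h₂.exists_perp2 hS.six v v
  obtain ⟨u', hu'⟩ := hS.h₁.exists_pair hu
  have hpw := hS.polar_self_right (a := u) u hd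
  refine ⟨sO (hS.pure u v) hpw, hS.sO_comm _ _, fun hN => ?_⟩
  set R : Submodule F (Matrix I J F) := Submodule.span F ({vecMulVec u v, vecMulVec u d} : Set (Matrix I J F)) with hRd
  have hp : vecMulVec u v ∈ R := Submodule.subset_span (Or.inl rfl)
  have hw : vecMulVec u d ∈ R := Submodule.subset_span (Or.inr rfl)
  have hR : ∀ y, (sO (hS.pure u v) hpw).1 y - y ∈ R := fun y => by
    rw [sO_apply, add_assoc, add_assoc, add_sub_cancel_left]
    exact R.add_mem (R.smul_mem _ hp) (R.add_mem (R.smul_mem _ hw) (R.smul_mem _ hp))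
  have hfR : finrank F R ≤ Fintype.card I := by
    have := finrank_span_le_card (R := F) ({vecMulVec u v, vecMulVec u d} : Set (Matrix I J F))
    rw [Set.toFinset_insert, Set.toFinset_singleton] at this
    exact le_trans (this.trans Finset.card_le_two) hS.two
  have hne : (sO (hS.pure u v) hpw).1 ≠ 1 := fun e => by
    have h1 := LinearEquiv.congr_fun e (vecMulVec u' x)
    rw [sO_apply, LinearEquiv.coe_one, id_eq, hS.polar_pure, hS.polar_pure, hS.h₁.swap u u', hu', hS.h₂.swap d x, hdx,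
      hS.h₂.perp_symm hx, hS.pure] at h1
    simp only [zero_mul, mul_zero, neg_zero, zero_smul, add_zero, neg_mul_neg, mul_one, one_smul, add_eq_left] at h1
    obtain ⟨i, hi⟩ := Function.ne_iff.1 hu
    obtain ⟨j, hj⟩ := Function.ne_iff.1 hv
    exact mul_ne_zero hi hj (congrFun (congrFun h1 i) j)
  obtain ⟨w₀, hw₀, hwR⟩ := hN.range_eq (by have := hS.lt; omega) R hR hfR hne
  have key : ∀ y, vecMulVec u y ∈ R → y ∈ F ∙ w₀ := fun y hy => by
    rw [← hwR] at hy
    obtain ⟨a, ha⟩ := mem_pl.1 hy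
    obtain ⟨i, hi⟩ := Function.ne_iff.1 hu
    refine Submodule.mem_span_singleton.2 ⟨a i / u i, funext fun j => ?_⟩
    have := congrFun (congrFun ha i) j
    rw [vecMulVec_apply, vecMulVec_apply] at this
    rw [Pi.smul_apply, smul_eq_mul, div_mul_eq_mul_div, div_eq_iff (show u i ≠ 0 from hi)]
    linear_combination this
  obtain ⟨s, hs⟩ := Submodule.mem_span_singleton.1 (key d hw)
  obtain ⟨t, ht⟩ := Submodule.mem_span_singleton.1 (key v hp)
  rw [← hs, gf_smul_left] at hdx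
  rw [← ht, gf_smul_left] at hx
  rcases mul_eq_zero.1 hx with h | h
  · exact hv (by rw [← ht, h, zero_smul])
  · rw [h, mul_zero] at hdx
    exact zero_ne_one hdx

end Cfsg.Agent.ClassicalMax.Tensor
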