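import Cfsg.Agent.ClassicalMax.Tensor.Symp

/-!
An isometry of the tensor product of two symplectic spaces that lies in an overgroup of the stabiliser of the
decomposition and preserves one pure subspace either preserves the decomposition or generates everything.
-/

set_option autoImplicit false
set_option linter.unusedSectionVars false
set_option linter.style.haveILetI false

namespace Cfsg.Agent.ClassicalMax.Tensor

open Module Matrix QuadraticMap Cfsg.Agent.Classical Cfsg.Agent.Classical.Quad Cfsg.Agent.ClassicalMax.RootPlanes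

section Moves

variable {F K : Type*} [Field F] [Fintype K] [DecidableEq K] {G : Matrix K K F}

/-- products of transvections move vectors inside the orthogonal of a subspace -/
theorem IsSymp.exists_move (hG : IsSymp G) (P : ((K → F) → (K → F)) → Prop)
    (ht : ∀ c t, P fun x => x + (t * gf G x c) • c) (hm : ∀ T T', P T → P T' → P (T ∘ T')) {S : Submodule F (K → F)}
    {b b' : K → F} (hb : ∀ s ∈ S, gf G s b = 0) (hb' : ∀ s ∈ S, gf G s b' = 0) (hbS : b ∉ S) (hb'S : b' ∉ S) :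
    ∃ T, P T ∧ T b = b' ∧ ∀ s ∈ S, T s = s := by
  have step : ∀ b b' : K → F, (∀ s ∈ S, gf G s b = 0) → (∀ s ∈ S, gf G s b' = 0) → gf G b b' ≠ 0 →
      ∃ T, P T ∧ T b = b' ∧ ∀ s ∈ S, T s = s := fun b b' hb hb' h => by
    refine ⟨_, ht (b' - b) (gf G b b')⁻¹, ?_, fun s hs => ?_⟩
    · show b + ((gf G b b')⁻¹ * gf G b (b' - b)) • (b' - b) = b'
      rw [gf_sub_right, hG.alt, sub_zero, inv_mul_cancel₀ h, one_smul, add_sub_cancel]
    · show s + ((gf G b b')⁻¹ * gf G s (b' - b)) • (b' - b) = s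
      rw [gf_sub_right, hb s hs, hb' s hs, sub_zero, mul_zero, zero_smul, add_zero]
  by_cases h : gf G b b' = 0
  swap
  · exact step b b' hb hb' h
  obtain ⟨x, hx1, hx2⟩ := hG.exists_dual hbS
  obtain ⟨y, hy1, hy2⟩ := hG.exists_dual hb'S
  obtain ⟨w, hw, h1, h2⟩ : ∃ w, (∀ s ∈ S, gf G s w = 0) ∧ gf G b w ≠ 0 ∧ gf G b' w ≠ 0 := by
    by_cases hxy : gf G b' x = 0
    · by_cases hyx : gf G b y = 0
      · exact ⟨x + y, fun s hs => by rw [gf_add_right, hx1 s hs, hy1 s hs, add_zero],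
          by rw [gf_add_right, hx2, hyx, add_zero]; exact one_ne_zero,
          by rw [gf_add_right, hy2, hxy, zero_add]; exact one_ne_zero⟩
      · exact ⟨y, hy1, hyx, by rw [hy2]; exact one_ne_zero⟩
    · exact ⟨x, hx1, by rw [hx2]; exact one_ne_zero, hxy⟩
  obtain ⟨T₁, m₁, e₁, f₁⟩ := step b w hb hw h1
  obtain ⟨T₂, m₂, e₂, f₂⟩ := step w b' hw hb' (fun e => h2 (hG.perp_symm e))
  exact ⟨T₂ ∘ T₁, hm _ _ m₂ m₁, by rw [Function.comp_apply, e₁, e₂],
    fun s hs => by rw [Function.comp_apply, f₁ s hs, f₂ s hs]⟩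

/-- a transvection preserves the form -/
theorem IsSymp.trv_form (hG : IsSymp G) (c : K → F) (t : F) (x y : K → F) :
    gf G (x + (t * gf G x c) • c) (y + (t * gf G y c) • c) = gf G x y := by
  simp only [gf_add_left, gf_add_right, gf_smul_left, gf_smul_right, hG.alt, hG.swap y c]
  ring

/-- a transvection is surjective -/
theorem IsSymp.trv_surj (hG : IsSymp G) (c : K → F) (t : F) :
    Function.Surjective fun x : K → F => x + (t * gf G x c) • c := fun y => by
  refine ⟨y - (t * gf G y c) • c, ?_⟩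
  show y - (t * gf G y c) • c + (t * gf G (y - (t * gf G y c) • c) c) • c = y
  rw [gf_sub_left, gf_smul_left, hG.alt, mul_zero, sub_zero, sub_add_cancel]

theorem IsSymp.exists_perp2 (hG : IsSymp G) (h6 : 6 ≤ Fintype.card K) (a b : K → F) :
    ∃ w x, gf G a w = 0 ∧ gf G b w = 0 ∧ gf G a x = 0 ∧ gf G b x = 0 ∧ gf G w x = 1 := by
  obtain ⟨w, x, h1, h2, h3⟩ := hG.exists_pair_perp (S := Submodule.span F ({a, b} : Set (K → F))) (by
    classical
    have := finrank_span_le_card (R := F) ({a, b} : Set (K → F))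
    rw [Set.toFinset_insert, Set.toFinset_singleton] at this
    have h' := this.trans Finset.card_le_two
    omega)
  exact ⟨w, x, h1 a (Submodule.subset_span (Or.inl rfl)), h1 b (Submodule.subset_span (Or.inr rfl)),
    h2 a (Submodule.subset_span (Or.inl rfl)), h2 b (Submodule.subset_span (Or.inr rfl)), h3⟩

/-- two vectors of a plane that are not orthogonal give every vector -/
theorem IsSymp.plane (hG : IsSymp G) (h2 : Fintype.card K = 2) {u z : K → F} (h : gf G u z ≠ 0) {y : K → F}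
    (hu : gf G y u = 0) (hz : gf G y z = 0) : y = 0 := by
  have hi : LinearIndependent F ![u, z] := LinearIndependent.pair_iff.2 fun s t e => by
    have e1 : gf G (s • u + t • z) z = 0 := by rw [e, gf_zero_left]
    have e2 : gf G u (s • u + t • z) = 0 := by rw [e, gf_zero_right]
    rw [gf_add_left, gf_smul_left, gf_smul_left, hG.alt, mul_zero, add_zero] at e1
    rw [gf_add_right, gf_smul_right, gf_smul_right, hG.alt, mul_zero, zero_add] at e2
    exact ⟨(mul_eq_zero.1 e1).resolve_right h, (mul_eq_zero.1 e2).resolve_right h⟩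
  by_contra hy
  obtain ⟨b, hb⟩ := hG.exists_pair hy
  have hb' : b ∈ Submodule.span F (Set.range ![u, z]) := by
    rw [hi.span_eq_top_of_card_eq_finrank (by rw [Fintype.card_fin, finrank_fintype_fun_eq_card, h2])]
    trivial
  rw [Matrix.range_cons, Matrix.range_cons, Matrix.range_empty, Set.union_empty, Set.singleton_union] at hb'
  obtain ⟨s, t, rfl⟩ := Submodule.mem_span_pair.1 hb'
  rw [gf_add_right, gf_smul_right, gf_smul_right, hu, hz, mul_zero, mul_zero, add_zero] at hb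
  exact zero_ne_one hb

/-- the skew operator of two vectors with a correction -/
def sk (G : Matrix K K F) (u z : K → F) (κ : F) : (K → F) →ₗ[F] (K → F) where
  toFun a := gf G a u • z + gf G a z • u + (κ * gf G a u) • u
  map_add' a b := by simp only [gf_add_left]; module
  map_smul' t a := by simp only [gf_smul_left, RingHom.id_apply]; module

theorem sk_apply (u z : K → F) (κ : F) (a : K → F) :
    sk G u z κ a = gf G a u • z + gf G a z • u + (κ * gf G a u) • u := rfl

theorem IsSymp.sk_adj (hG : IsSymp G) (u z : K → F) (κ : F) (a b : K → F) :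
    gf G (-sk G u z κ a) b = gf G a (sk G u z κ b) := by
  simp only [sk_apply, gf_neg_left, gf_add_left, gf_add_right, gf_smul_left, gf_smul_right]
  rw [hG.swap b z, hG.swap b u]
  ring

theorem scalar_of_forall {f : (K → F) →ₗ[F] (K → F)} (h : ∀ a, ∃ s : F, f a = s • a) : ∃ m : F, ∀ a, f a = m • a := by
  obtain ⟨m, hm⟩ := LinearMap.exists_eq_smul_id_of_forall_notLinearIndependent (f := f) fun a hl => by
    obtain ⟨s, hs⟩ := h a
    exact one_ne_zero (LinearIndependent.pair_iff.1 hl (-s) 1 (by rw [hs]; module)).2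
  exact ⟨m, fun a => by rw [hm]; rfl⟩

end Moves

variable {F : Type*} [Field F] [Finite F] {I J : Type} [Fintype I] [Fintype J] [DecidableEq I] [DecidableEq J]
  {Q : QuadraticForm F (Matrix I J F)} {J₁ : Matrix I I F} {J₂ : Matrix J J F} {H : Subgroup (oG Q)}

theorem vec_J (a : I → F) (b w : J → F) : vecMulVec a b *ᵥ (J₂ *ᵥ w) = gf J₂ b w • a := by
  rw [vecMulVec_mulVec, op_smul_eq_smul]
  rfl

/-- the pure vectors with a fixed second factor, as a linear map -/
def vR (v : J → F) : (I → F) →ₗ[F] Matrix I J F where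
  toFun a := vecMulVec a v
  map_add' a b := add_vecMulVec a b v
  map_smul' t a := smul_vecMulVec t a v

/-- multiplication of the second factor by a vector -/
def rcol (J₂ : Matrix J J F) (w : J → F) : Matrix I J F →ₗ[F] (I → F) where
  toFun x := x *ᵥ (J₂ *ᵥ w)
  map_add' x y := add_mulVec x y _
  map_smul' t x := smul_mulVec t x _

theorem rcol_apply (w : J → F) (x : Matrix I J F) : rcol J₂ w x = x *ᵥ (J₂ *ᵥ w) := rfl

theorem eq_vec_of_perp (hS : SympTensor Q J₁ J₂) {v v' : J → F} (h1 : gf J₂ v v' = 1) {x : Matrix I J F}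
    (h : ∀ w, gf J₂ v w = 0 → x *ᵥ (J₂ *ᵥ w) = 0) : x = vecMulVec (x *ᵥ (J₂ *ᵥ v')) v :=
  eq_vec (φ₀ := J₂ *ᵥ v') h1 fun φ hφ => by
    obtain ⟨w, rfl⟩ := hS.h₂.surj φ
    exact h w hφ

/-- conjugation by the element sends the isometries of the decomposition into `H` -/
def Good (H : Subgroup (oG Q)) (g : oG Q) : Prop := ∀ T ∈ commutator (oG Q), InN T.1 → g * T * g⁻¹ ∈ H

theorem Good.of_mem (hle : TLe H) {g : oG Q} (hg : g ∈ H) : Good H g := fun T hT hN =>
  mul_mem (mul_mem hg (hle T hT hN)) (inv_mem hg)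

theorem Good.comm_mem (hle : TLe H) {g : oG Q} (hg : Good H g) {T : oG Q} (hT : T ∈ commutator (oG Q))
    (hN : InN T.1) : g * T * g⁻¹ * T⁻¹ ∈ H := mul_mem (hg T hT hN) (inv_mem (hle T hT hN))

theorem Good.mul_inN {g n : oG Q} (hg : Good H g) (hn : InN n.1) : Good H (g * n) := fun T hT hN => by
  have h : (n * T * n⁻¹ : oG Q) ∈ commutator (oG Q) := Subgroup.Normal.conj_mem (Subgroup.commutator_normal _ _) T hT n
  have h' := hg _ h ((hn.mul hN).mul hn.inv)
  rwa [show g * n * T * (g * n)⁻¹ = g * (n * T * n⁻¹) * g⁻¹ by group]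

/-- the element fixes the pure subspace of `v` and the factors of its flag -/
structure Rad (J₂ : Matrix J J F) (g : oG Q) (v : J → F) : Prop where
  fix : ∀ a, g.1 (vecMulVec a v) = vecMulVec a v
  perp : ∀ a w, gf J₂ w v = 0 → ∃ y, g.1 (vecMulVec a w) = vecMulVec a w + vecMulVec y v

/-- a unipotent element supported by the pairs `(v, c)` and `(v, v)` -/
structure EF (J₁ : Matrix I I F) (J₂ : Matrix J J F) (g : oG Q) (v c : J → F) (K K' M : (I → F) →ₗ[F] (I → F)) : Prop
    where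
  hv : v ≠ 0
  hc : c ∉ F ∙ v
  hvc : gf J₂ v c = 0
  apply : ∀ a b, g.1 (vecMulVec a b) = vecMulVec a b + gf J₂ b c • vecMulVec (K a) v +
    gf J₂ b v • (vecMulVec (K' a) c + vecMulVec (M a) v)
  adj : ∀ a b, gf J₁ (K' a) b = gf J₁ a (K b)

/-- the form of an element given on the orthogonal of the pure subspace -/
theorem ef_of_perp (hS : SympTensor Q J₁ J₂) {g : oG Q} {v c : J → F} (hv : v ≠ 0) (hc : c ∉ F ∙ v)
    (hvc : gf J₂ v c = 0) {K : (I → F) →ₗ[F] (I → F)}
    (hg : ∀ a w, gf J₂ w v = 0 → g.1 (vecMulVec a w) = vecMulVec a w + gf J₂ w c • vecMulVec (K a) v) :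
    ∃ K' M, EF J₁ J₂ g v c K K' M := by
  have hvc' : v ∉ F ∙ c := fun hm => hc (by
    obtain ⟨t, ht⟩ := Submodule.mem_span_singleton.1 hm
    have ht0 : t ≠ 0 := fun e => hv (by rw [← ht, e, zero_smul])
    exact Submodule.mem_span_singleton.2 ⟨t⁻¹, by rw [← ht, inv_smul_smul₀ ht0]⟩)
  obtain ⟨v', hcv', hvv'⟩ := hS.h₂.exists_dual hvc'
  replace hcv' := hcv' c (Submodule.mem_span_singleton_self c)
  obtain ⟨w₁, hvw₁, hcw₁⟩ := hS.h₂.exists_dual hc
  replace hvw₁ := hvw₁ v (Submodule.mem_span_singleton_self v)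
  let δ : (I → F) →ₗ[F] Matrix I J F := g.1.toLinearMap ∘ₗ vR v' - vR v'
  have hδ : ∀ a, g.1 (vecMulVec a v') = vecMulVec a v' + δ a := fun a => by
    show _ = vecMulVec a v' + (g.1 (vecMulVec a v') - vecMulVec a v')
    abel
  have hδv : ∀ a b, polar Q (δ a) (vecMulVec b v) = 0 := fun a b => by
    have h := polar_oG g (vecMulVec a v') (vecMulVec b v)
    rw [hδ, hg b v (hS.h₂.alt v), hvc, zero_smul, add_zero, polar_add_left, add_eq_left] at h
    exact h
  have hδw : ∀ a b w, gf J₂ w v = 0 → polar Q (δ a) (vecMulVec b w) = gf J₂ w c * gf J₁ a (K b) := fun a b w hw => by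
    have h := polar_oG g (vecMulVec a v') (vecMulVec b w)
    rw [hδ, hg b w hw, polar_add_left, polar_add_right, polar_add_right, polar_smul_right, polar_smul_right, hδv,
      hS.polar_pure a (K b), hS.h₂.swap v v', hvv', smul_eq_mul, smul_eq_mul] at h
    linear_combination h
  let K' : (I → F) →ₗ[F] (I → F) := -(rcol J₂ w₁ ∘ₗ δ)
  let M : (I → F) →ₗ[F] (I → F) := -(rcol J₂ v' ∘ₗ δ)
  have hK'a : ∀ a b, gf J₁ (K' a) b = gf J₁ a (K b) := fun a b => by
    show gf J₁ (-(δ a *ᵥ (J₂ *ᵥ w₁))) b = _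
    rw [gf_neg_left, ← hS.polar_left, hδw a b w₁ (hS.h₂.perp_symm hvw₁), hS.h₂.swap c w₁, hcw₁]
    ring
  have hη : ∀ a, δ a = -(vecMulVec (K' a) c + vecMulVec (M a) v) := fun a => by
    rw [← add_eq_zero_iff_eq_neg]
    set η := δ a + (vecMulVec (K' a) c + vecMulVec (M a) v) with hη
    rw [eq_vec_of_perp hS hvv' (x := η) fun w hw => ?_]
    · have : η *ᵥ (J₂ *ᵥ v') = 0 := by
        rw [hη, add_mulVec, add_mulVec, vec_J, vec_J, hcv', hvv', zero_smul, zero_add, one_smul]
        show δ a *ᵥ (J₂ *ᵥ v') + -(δ a *ᵥ (J₂ *ᵥ v')) = 0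
        exact add_neg_cancel _
      rw [this, zero_vecMulVec]
    · by_contra hne
      obtain ⟨b, hb⟩ := hS.h₁.exists_pair hne
      rw [hη, add_mulVec, add_mulVec, vec_J, vec_J, hw, zero_smul, add_zero, gf_add_left, ← hS.polar_left,
        hδw a b w (hS.h₂.perp_symm hw), gf_smul_left, hK'a, hS.h₂.swap w c] at hb
      exact zero_ne_one (by linear_combination hb)
  refine ⟨K', M, hv, hc, hvc, fun a b => ?_, hK'a⟩
  have hb : b = (b + gf J₂ b v • v') + (-gf J₂ b v) • v' := by module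
  have hp : gf J₂ (b + gf J₂ b v • v') v = 0 := by
    rw [gf_add_left, gf_smul_left, hS.h₂.swap v v', hvv']
    ring
  conv_lhs => rw [hb, vecMulVec_add, map_add, hg a _ hp, vecMulVec_smul, map_smul, hδ, hη]
  rw [gf_add_left, gf_smul_left, hS.h₂.perp_symm hcv', mul_zero, add_zero, vecMulVec_add, vecMulVec_smul]
  module

namespace EF

variable {g : oG Q} {v c : J → F} {K K' M : (I → F) →ₗ[F] (I → F)}

theorem adj_unique (hS : SympTensor Q J₁ J₂) (he : EF J₁ J₂ g v c K K' M) {L : (I → F) →ₗ[F] (I → F)}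
    (hL : ∀ a b, gf J₁ (L a) b = gf J₁ a (K b)) : K' = L := LinearMap.ext fun a => by
  by_contra hne
  obtain ⟨b, hb⟩ := hS.h₁.exists_pair (sub_ne_zero.2 hne)
  rw [gf_sub_left, he.adj, hL, sub_self] at hb
  exact zero_ne_one hb

theorem fix_v (he : EF J₁ J₂ g v c K K' M) (hS : SympTensor Q J₁ J₂) (a : I → F) :
    g.1 (vecMulVec a v) = vecMulVec a v := by
  rw [he.apply, he.hvc, hS.h₂.alt, zero_smul, zero_smul, add_zero, add_zero]

theorem perp_apply (he : EF J₁ J₂ g v c K K' M) (a : I → F) {w : J → F} (hw : gf J₂ w v = 0) :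
    g.1 (vecMulVec a w) = vecMulVec a w + gf J₂ w c • vecMulVec (K a) v := by
  rw [he.apply, hw, zero_smul, add_zero]

/-- conjugation by a map of the second factor -/
theorem conj_right (hS : SympTensor Q J₁ J₂) (he : EF J₁ J₂ g v c K K' M) {k : oG Q} {T : (J → F) → (J → F)}
    (hk : ∀ a x, k.1 (vecMulVec a x) = vecMulVec a (T x)) (hT : ∀ x y, gf J₂ (T x) (T y) = gf J₂ x y)
    (hs : Function.Surjective T) : EF J₁ J₂ (k * g * k⁻¹) (T v) (T c) K K' M where
  hv e := by
    obtain ⟨w, hw⟩ := hS.h₂.exists_pair he.hv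
    rw [← hT, e, gf_zero_left] at hw
    exact zero_ne_one hw
  hc hm := by
    obtain ⟨t, ht⟩ := Submodule.mem_span_singleton.1 hm
    obtain ⟨w, hvw, hcw⟩ := hS.h₂.exists_dual he.hc
    have := hT c w
    rw [← ht, gf_smul_left, hT, hcw, hvw v (Submodule.mem_span_singleton_self v), mul_zero] at this
    exact zero_ne_one this
  hvc := by rw [hT, he.hvc]
  apply a y := by
    obtain ⟨b, rfl⟩ := hs y
    rw [oG_mul_apply, oG_mul_apply, ← hk a b, show (k⁻¹).1 (k.1 (vecMulVec a b)) = vecMulVec a b from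
      k.1.symm_apply_apply _, he.apply]
    simp only [map_add, map_smul, hk, hT]
  adj := he.adj

end EF

theorem exists_right (hS : SympTensor Q J₁ J₂) (hle : TLe H) {S : Submodule F (J → F)} {b b' : J → F}
    (hb : ∀ s ∈ S, gf J₂ s b = 0) (hb' : ∀ s ∈ S, gf J₂ s b' = 0) (hbS : b ∉ S) (hb'S : b' ∉ S) :
    ∃ k ∈ H, ∃ T : (J → F) → (J → F), (∀ a x, k.1 (vecMulVec a x) = vecMulVec a (T x)) ∧
      (∀ x y, gf J₂ (T x) (T y) = gf J₂ x y) ∧ Function.Surjective T ∧ T b = b' ∧ ∀ s ∈ S, T s = s := by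
  obtain ⟨T, ⟨k, hk, h1, h2, h3⟩, h4, h5⟩ := hS.h₂.exists_move
    (fun T => ∃ k ∈ H, (∀ (a : I → F) x, k.1 (vecMulVec a x) = vecMulVec a (T x)) ∧
      (∀ x y, gf J₂ (T x) (T y) = gf J₂ x y) ∧ Function.Surjective T)
    (fun c t => ⟨_, hle.right hS c t, fun a x => rE_pure hS c t a x, hS.h₂.trv_form c t, hS.h₂.trv_surj c t⟩)
    (fun T T' ⟨k, hk, h1, h2, h3⟩ ⟨k', hk', h1', h2', h3'⟩ => ⟨k * k', mul_mem hk hk',
      fun a x => by rw [oG_mul_apply, h1', h1, Function.comp_apply],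
      fun x y => by rw [Function.comp_apply, Function.comp_apply, h2, h2'], h3.comp h3'⟩) hb hb' hbS hb'S
  exact ⟨k, hk, T, h1, h2, h3, h4, h5⟩

theorem exists_left (hS : SympTensor Q J₁ J₂) (hle : TLe H) {S : Submodule F (I → F)} {b b' : I → F}
    (hb : ∀ s ∈ S, gf J₁ s b = 0) (hb' : ∀ s ∈ S, gf J₁ s b' = 0) (hbS : b ∉ S) (hb'S : b' ∉ S) :
    ∃ k ∈ H, ∃ T : (I → F) → (I → F), (∀ a x, k.1 (vecMulVec a x) = vecMulVec (T a) x) ∧
      (∀ x y, gf J₁ (T x) (T y) = gf J₁ x y) ∧ Function.Surjective T ∧ T b = b' ∧ ∀ s ∈ S, T s = s := by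
  obtain ⟨T, ⟨k, hk, h1, h2, h3⟩, h4, h5⟩ := hS.h₁.exists_move
    (fun T => ∃ k ∈ H, (∀ a (x : J → F), k.1 (vecMulVec a x) = vecMulVec (T a) x) ∧
      (∀ x y, gf J₁ (T x) (T y) = gf J₁ x y) ∧ Function.Surjective T)
    (fun c t => ⟨_, hle.left hS c t, fun a x => lE_pure hS c t a x, hS.h₁.trv_form c t, hS.h₁.trv_surj c t⟩)
    (fun T T' ⟨k, hk, h1, h2, h3⟩ ⟨k', hk', h1', h2', h3'⟩ => ⟨k * k', mul_mem hk hk',
      fun a x => by rw [oG_mul_apply, h1', h1, Function.comp_apply],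
      fun x y => by rw [Function.comp_apply, Function.comp_apply, h2, h2'], h3.comp h3'⟩) hb hb' hbS hb'S
  exact ⟨k, hk, T, h1, h2, h3, h4, h5⟩

theorem perp_span {G : Matrix J J F} {v d : J → F} (h : gf G v d = 0) : ∀ s ∈ F ∙ v, gf G s d = 0 := fun s hs => by
  obtain ⟨t, rfl⟩ := Submodule.mem_span_singleton.1 hs
  rw [gf_smul_left, h, mul_zero]

theorem smul_notMem {V : Type*} [AddCommGroup V] [Module F V] {v d : V} (hd : d ∉ F ∙ v) {t : F} (ht : t ≠ 0) :
    t • d ∉ F ∙ v := fun h => hd (by simpa [inv_smul_smul₀ ht] using Submodule.smul_mem _ t⁻¹ h)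

/-- the correction of a skew element is removed -/
theorem exact_all (hS : SympTensor Q J₁ J₂) (hle : TLe H) {E : oG Q} (hE : E ∈ H) {v c : J → F}
    {K M : (I → F) →ₗ[F] (I → F)} (he : EF J₁ J₂ E v c K (-K) M) {d : J → F} (hd : d ∉ F ∙ v)
    (hvd : gf J₂ v d = 0) : ∃ G ∈ H, EF J₁ J₂ G v d K (-K) 0 := by
  obtain ⟨c', x, hvc', hcc', hvx, hcx, hc'x⟩ := hS.h₂.exists_perp2 hS.six v c
  have hc' : c' ∉ F ∙ v := fun hm => by
    obtain ⟨t, rfl⟩ := Submodule.mem_span_singleton.1 hm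
    rw [gf_smul_left, hvx, mul_zero] at hc'x
    exact zero_ne_one hc'x
  obtain ⟨k, hk, T, hkT, hTf, hTs, hTc, hTv⟩ :=
    exists_right hS hle (perp_span he.hvc) (perp_span hvc') he.hc hc'
  have hTv' := hTv v (Submodule.mem_span_singleton_self v)
  have he' := he.conj_right hS hkT hTf hTs
  rw [hTc, hTv'] at he'
  set E' := k * E * k⁻¹ with hE'
  have hd₀ : c - c' ∉ F ∙ v := fun hm => by
    obtain ⟨t, ht⟩ := Submodule.mem_span_singleton.1 hm
    have := congrArg (gf J₂ · x) ht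
    simp only [gf_smul_left, gf_sub_left, hvx, hcx, hc'x, mul_zero, zero_sub] at this
    exact one_ne_zero (by linear_combination this)
  have h0 : EF J₁ J₂ (E * E'⁻¹) v (c - c') K (-K) 0 := by
    refine ⟨he.hv, hd₀, by rw [gf_sub_right, he.hvc, hvc', sub_zero], fun a b => ?_, he.adj⟩
    set X := vecMulVec a b - gf J₂ b c' • vecMulVec (K a) v - gf J₂ b v • (vecMulVec ((-K) a) c' + vecMulVec (M a) v)
      with hX
    have e1 : E'.1 X = vecMulVec a b := by
      rw [hX]
      simp only [map_sub, map_add, map_smul, he'.apply, hS.h₂.alt, hS.h₂.perp_symm hvc', hvc',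
        zero_smul, add_zero, LinearMap.neg_apply]
      module
    conv_lhs => rw [← e1, oG_mul_apply, show (E'⁻¹).1 (E'.1 X) = X from E'.1.symm_apply_apply X, hX]
    simp only [map_sub, map_add, map_smul, he.apply, hS.h₂.alt, hS.h₂.perp_symm hvc', hS.h₂.perp_symm hcc',
      he.hvc, hcc', hvc', gf_sub_right, vecMulVec_sub, zero_smul, add_zero, LinearMap.neg_apply, LinearMap.zero_apply,
      zero_vecMulVec]
    module
  obtain ⟨k₂, hk₂, T₂, hkT₂, hTf₂, hTs₂, hTd, hTv₂⟩ :=
    exists_right hS hle (perp_span h0.hvc) (perp_span hvd) hd₀ hd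
  have h1 := h0.conj_right hS hkT₂ hTf₂ hTs₂
  rw [hTd, hTv₂ v (Submodule.mem_span_singleton_self v)] at h1
  exact ⟨_, mul_mem (mul_mem hk₂ (mul_mem hE (inv_mem (mul_mem (mul_mem hk hE) (inv_mem hk))))) (inv_mem hk₂), h1⟩

/-- a rank-one skew element gives everything -/
theorem uu_done (hS : SympTensor Q J₁ J₂) (hle : TLe H) {E : oG Q} (hE : E ∈ H) {v c : J → F}
    {K M : (I → F) →ₗ[F] (I → F)} {u : I → F} {κ : F} (hu : u ≠ 0) (hκ : κ ≠ 0)
    (hK : ∀ a, K a = (κ * gf J₁ a u) • u) (he : EF J₁ J₂ E v c K (-K) M) : eo Q ≤ H := by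
  refine eo_le_of_row hS hle hu he.hvc he.hc he.hv
    ⟨hS.pure _ _, hS.pure _ _, hS.polar_self_right _ he.hvc, fun l hp hpw => ?_⟩
  rcases eq_or_ne l 0 with rfl | hl
  · rw [sO_congr hp hpw (by simp [polar]) (zero_smul F _), sO_zero]
    exact one_mem H
  obtain ⟨G, hG, heG⟩ := exact_all hS hle hE he (d := (l / κ) • c) (smul_notMem he.hc (div_ne_zero hl hκ))
    (by rw [gf_smul_right, he.hvc, mul_zero])
  suffices e : sO hp hpw = G from e ▸ hG
  refine ext_oG_pure fun a b => ?_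
  rw [sO_apply, heG.apply, polar_smul_right, hS.polar_pure, hS.polar_pure, Quad.map_smul', hS.pure,
    LinearMap.neg_apply, LinearMap.zero_apply, zero_vecMulVec, add_zero, hK, gf_smul_right, smul_vecMulVec,
    vecMulVec_smul, neg_vecMulVec, smul_vecMulVec, smul_eq_mul, mul_zero, zero_mul, neg_zero, zero_smul, add_zero]
  match_scalars <;> field_simp

/-- a skew element of an orthogonal pair gives everything -/
theorem pair_done (hS : SympTensor Q J₁ J₂) (hle : TLe H) {E : oG Q} (hE : E ∈ H) {v c : J → F}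
    {M : (I → F) →ₗ[F] (I → F)} {u z : I → F} (hu : u ∉ F ∙ z) (hz : z ≠ 0) (huz : gf J₁ u z = 0)
    (he : EF J₁ J₂ E v c (sk J₁ u z 0) (-sk J₁ u z 0) M) : eo Q ≤ H := by
  obtain ⟨u', hzu', huu'⟩ := hS.h₁.exists_dual hu
  replace hzu' := hzu' z (Submodule.mem_span_singleton_self z)
  have hu' : u' ∉ F ∙ z := fun hm => by
    obtain ⟨t, rfl⟩ := Submodule.mem_span_singleton.1 hm
    rw [gf_smul_right, huz, mul_zero] at huu'
    exact zero_ne_one huu'
  have hsp : ∀ {y : I → F}, gf J₁ z y = 0 → ∀ s ∈ F ∙ z, gf J₁ s y = 0 := fun {y} h s hs => by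
    obtain ⟨t, rfl⟩ := Submodule.mem_span_singleton.1 hs
    rw [gf_smul_left, h, mul_zero]
  obtain ⟨kl, hkl, S, hklS, hSf, hSs, hSu, hSz⟩ :=
    exists_left hS hle (hsp (hS.h₁.perp_symm huz)) (hsp hzu') hu hu'
  have hSz' := hSz z (Submodule.mem_span_singleton_self z)
  obtain ⟨v'', hv''⟩ := hS.h₂.exists_pair he.hv
  obtain ⟨d, x, hvd, hv''d, hvx, hv''x, hdx⟩ := hS.h₂.exists_perp2 hS.six v v''
  obtain ⟨d', hd'0, hd'⟩ := hS.h₂.exists_perp (S := Submodule.span F (Set.range ![v, v'', d, x]))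
    (lt_of_le_of_lt (finrank_range_le_card _) (by rw [Fintype.card_fin]; have := hS.six; omega))
  have hvd' := hd' v (Submodule.subset_span ⟨0, rfl⟩)
  have hv''d' := hd' v'' (Submodule.subset_span ⟨1, rfl⟩)
  have hdd' := hd' d (Submodule.subset_span ⟨2, rfl⟩)
  have hxd' := hd' x (Submodule.subset_span ⟨3, rfl⟩)
  have hdd : d' ∉ F ∙ d := fun hm => by
    obtain ⟨t, rfl⟩ := Submodule.mem_span_singleton.1 hm
    rw [gf_smul_right, hS.h₂.swap d x, hdx] at hxd'
    exact hd'0 (by rw [show t = 0 by linear_combination -hxd', zero_smul])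
  have hd0 : d ≠ 0 := fun e => by rw [e, gf_zero_left] at hdx; exact zero_ne_one hdx
  have hdv : d ∉ F ∙ v := fun hm => by
    obtain ⟨t, rfl⟩ := Submodule.mem_span_singleton.1 hm
    rw [gf_smul_left, hvx, mul_zero] at hdx
    exact zero_ne_one hdx
  have hv''0 : v'' ≠ 0 := fun e => by rw [e, gf_zero_right] at hv''; exact zero_ne_one hv''
  have hd'v'' : d' ∉ F ∙ v'' := fun hm => by
    obtain ⟨t, rfl⟩ := Submodule.mem_span_singleton.1 hm
    rw [gf_smul_right, hv'', mul_one] at hvd'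
    exact hd'0 (by rw [hvd', zero_smul])
  -- the element based at `v''` and `d'`
  obtain ⟨G', hG', heG'⟩ : ∃ G ∈ H, EF J₁ J₂ G v'' d' (sk J₁ u' z 0) (-sk J₁ u' z 0) 0 := by
    obtain ⟨G₁, hG₁, h1⟩ := exact_all hS hle hE he (d := c) he.hc he.hvc
    obtain ⟨k, hk, T, hkT, hTf, hTs, hTv, -⟩ := exists_right hS hle (S := ⊥) (b := v) (b' := v'')
      (fun s hs => by rw [(Submodule.mem_bot F).1 hs, gf_zero_left])
      (fun s hs => by rw [(Submodule.mem_bot F).1 hs, gf_zero_left]) (by simpa using he.hv) (by simpa using hv''0)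
    have h2 := h1.conj_right hS hkT hTf hTs
    rw [hTv] at h2
    obtain ⟨G₂, hG₂, h3⟩ := exact_all hS hle (mul_mem (mul_mem hk hG₁) (inv_mem hk)) h2 hd'v'' hv''d'
    refine ⟨kl * G₂ * kl⁻¹, mul_mem (mul_mem hkl hG₂) (inv_mem hkl),
      ⟨h3.hv, h3.hc, h3.hvc, fun a b => ?_, hS.h₁.sk_adj u' z 0⟩⟩
    obtain ⟨a, rfl⟩ := hSs a
    rw [oG_mul_apply, oG_mul_apply, ← hklS a b, show (kl⁻¹).1 (kl.1 (vecMulVec a b)) = vecMulVec a b from
      kl.1.symm_apply_apply _, h3.apply]
    have e1 : gf J₁ (S a) u' = gf J₁ a u := by rw [← hSu, hSf]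
    have e2 : gf J₁ (S a) z = gf J₁ a z := by conv_lhs => rw [← hSz', hSf]
    simp only [LinearMap.neg_apply, LinearMap.zero_apply, sk_apply, add_vecMulVec, smul_vecMulVec, neg_vecMulVec,
      zero_mul, zero_smul, add_zero, zero_vecMulVec, map_add, map_smul, map_neg, hklS, hSu, hSz', e1, e2]
  refine eo_le_of_row hS hle hz hdd' hdd hd0
    ⟨hS.pure _ _, hS.pure _ _, hS.polar_self_right _ hdd', fun l hp hpw => ?_⟩
  rcases eq_or_ne l 0 with rfl | hl
  · rw [sO_congr hp hpw (by simp [polar]) (zero_smul F _), sO_zero]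
    exact one_mem H
  obtain ⟨G, hG, heG⟩ := exact_all hS hle hE he (d := (-l) • d) (smul_notMem hdv (neg_ne_zero.2 hl))
    (by rw [gf_smul_right, hvd, mul_zero])
  suffices e : sO hp hpw * (G' * G) = G * G' by
    have := mul_mem (mul_mem hG hG') (inv_mem (mul_mem hG' hG))
    rwa [← e, mul_inv_cancel_right] at this
  refine ext_oG_pure fun a b => ?_
  have hzG : ∀ y : J → F, gf J₂ y v = 0 → G.1 (vecMulVec z y) = vecMulVec z y := fun y hy => by
    rw [heG.perp_apply z hy, sk_apply, hS.h₁.alt, hS.h₁.perp_symm huz]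
    simp
  have hzG' : ∀ y : J → F, gf J₂ y v'' = 0 → G'.1 (vecMulVec z y) = vecMulVec z y := fun y hy => by
    rw [heG'.perp_apply z hy, sk_apply, hS.h₁.alt, hzu']
    simp
  have hpol : ∀ y : J → F, gf J₂ v y = 0 → gf J₂ v'' y = 0 →
      polar Q (G'.1 (G.1 (vecMulVec a b))) (vecMulVec z y) = gf J₁ a z * gf J₂ b y := fun y h1 h2 => by
    have := polar_oG (G' * G) (vecMulVec a b) (vecMulVec z y)
    rwa [oG_mul_apply, oG_mul_apply, hzG y (hS.h₂.perp_symm h1), hzG' y (hS.h₂.perp_symm h2), hS.polar_pure] at this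
  rw [oG_mul_apply (sO hp hpw), oG_mul_apply G', sO_apply, polar_smul_right, hpol d' hvd' hv''d',
    hpol d hvd hv''d, Quad.map_smul', hS.pure, oG_mul_apply G G']
  have hKu' : sk J₁ u z 0 u' = -z := by
    rw [sk_apply, hS.h₁.swap u u', huu', hS.h₁.perp_symm hzu']
    simp
  have hK'u : sk J₁ u' z 0 u = z := by
    rw [sk_apply, huu', huz]
    simp
  have hKz : sk J₁ u z 0 z = 0 := by
    rw [sk_apply, hS.h₁.alt, hS.h₁.perp_symm huz]
    simp
  have hK'z : sk J₁ u' z 0 z = 0 := by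
    rw [sk_apply, hS.h₁.alt, hzu']
    simp
  have k1 : ∀ a, sk J₁ u z 0 (sk J₁ u' z 0 a) = -(gf J₁ a z • z) := fun a => by
    rw [sk_apply u' z 0 a, zero_mul, zero_smul, add_zero, map_add, map_smul, map_smul, hKz, hKu', smul_zero,
      zero_add, smul_neg]
  have k2 : ∀ a, sk J₁ u' z 0 (sk J₁ u z 0 a) = gf J₁ a z • z := fun a => by
    rw [sk_apply u z 0 a, zero_mul, zero_smul, add_zero, map_add, map_smul, map_smul, hK'z, hK'u, smul_zero, zero_add]
  simp only [heG.apply, heG'.apply, map_add, map_neg, map_smul, LinearMap.neg_apply, LinearMap.zero_apply,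
    zero_vecMulVec, neg_vecMulVec, vecMulVec_smul, add_zero, gf_smul_left, gf_smul_right, hvd', hv''d', hdd',
    hS.h₂.perp_symm hdd', hS.h₂.perp_symm hvd', hS.h₂.perp_symm hvd, hS.h₂.perp_symm hv''d, hvd, hv''d,
    hS.h₂.swap v v'', hv'', k1, k2, mul_zero, zero_mul, zero_smul, smul_zero, smul_vecMulVec, smul_eq_mul, neg_zero]
  module

/-- two centres of the second kind give everything -/
theorem col_done (hS : SympTensor Q J₁ J₂) (hle : TLe H) {u z : I → F} {v : J → F} (hu : u ≠ 0) (hv : v ≠ 0)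
    (huz : gf J₁ u z = 0) (hz : z ∉ F ∙ u) (hPl : Pl H (vecMulVec u v) (vecMulVec z v)) : eo Q ≤ H := by
  obtain ⟨z', huz', hzz'⟩ := hS.h₁.exists_dual hz
  replace huz' := huz' u (Submodule.mem_span_singleton_self u)
  have hz' : z' ∉ F ∙ u := fun hm => by
    obtain ⟨t, rfl⟩ := Submodule.mem_span_singleton.1 hm
    rw [gf_smul_right, hS.h₁.swap u z, huz, neg_zero, mul_zero] at hzz'
    exact zero_ne_one hzz'
  have hsp : ∀ {y : I → F}, gf J₁ u y = 0 → ∀ s ∈ F ∙ u, gf J₁ s y = 0 := fun {y} h s hs => by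
    obtain ⟨t, rfl⟩ := Submodule.mem_span_singleton.1 hs
    rw [gf_smul_left, h, mul_zero]
  obtain ⟨kl, hkl, S, hklS, -, -, hSz, hSu⟩ := exists_left hS hle (hsp huz) (hsp huz') hz hz'
  have h1 := hPl.conj hkl
  rw [hklS, hklS, hSz, hSu u (Submodule.mem_span_singleton_self u)] at h1
  have key : ∀ y, gf J₂ v y = 1 → Pl H (vecMulVec u v) (vecMulVec u y) := fun y hy => by
    obtain ⟨k, hk, -, hke⟩ := exists_right_line hS hle (I := I) hv
      (show y ≠ 0 from fun e => by rw [e, gf_zero_right] at hy; exact zero_ne_one hy)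
    have h2 := h1.conj hk
    rw [hke, hke] at h2
    refine hPl.rule h2.symm (hS.polar_self_left _ _ huz') (hS.polar_self_left _ _ (hS.h₁.alt u))
      (hS.polar_self_left _ _ (hS.h₁.perp_symm huz)) ?_
    rw [hS.polar_pure, hzz', hy, mul_one]
    exact one_ne_zero
  obtain ⟨y, hy⟩ := hS.h₂.exists_pair hv
  obtain ⟨w, x, hw, -, hx, -, hwx⟩ := hS.h₂.exists_perp2 hS.six v v
  have hwv : w ∉ F ∙ v := fun hm => by
    obtain ⟨t, rfl⟩ := Submodule.mem_span_singleton.1 hm
    rw [gf_smul_left, hx, mul_zero] at hwx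
    exact zero_ne_one hwx
  have h3 := (key (y + w) (by rw [gf_add_right, hy, hw, add_zero])).add_right ((key y hy).smul_right (-1))
    (by rw [polar_smul_right, hS.polar_self_left _ _ (hS.h₁.alt u), smul_zero])
  rw [← vecMulVec_smul, ← vecMulVec_add, show y + w + (-1 : F) • y = w by module] at h3
  exact eo_le_of_row hS hle hu hw hwv hv h3

/-- a map of the decomposition fixing a pure subspace acts on the second factor only -/
theorem InN.right_only {g : Matrix I J F ≃ₗ[F] Matrix I J F} (hg : InN g) {v : J → F} (hv : v ≠ 0)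
    (hfix : ∀ a, g (vecMulVec a v) = vecMulVec a v) (a : I → F) (b : J → F) : ∃ x, g (vecMulVec a b) = vecMulVec a x := by
  obtain ⟨A, B, e⟩ := hg
  obtain ⟨j, hj⟩ := Function.ne_iff.1 hv
  have hj' : v j ≠ 0 := hj
  have h : ((A : Matrix I I F) *ᵥ a) = (((v ᵥ* (B : Matrix J J F)) j)⁻¹ * v j) • a ∨ a = 0 := by
    have h1 := fun i => congrFun (congrFun (hfix a) i) j
    simp only [e, mul_vecMulVec, vecMulVec_mul, vecMulVec_apply] at h1
    by_cases hB : (v ᵥ* (B : Matrix J J F)) j = 0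
    · refine Or.inr (funext fun i => ?_)
      have := h1 i
      rw [hB, mul_zero] at this
      exact (mul_eq_zero.1 this.symm).resolve_right hj'
    · refine Or.inl (funext fun i => ?_)
      rw [Pi.smul_apply, smul_eq_mul]
      field_simp
      linear_combination h1 i
  rcases h with h | rfl
  · refine ⟨(((v ᵥ* (B : Matrix J J F)) j)⁻¹ * v j) • (b ᵥ* (B : Matrix J J F)), ?_⟩
    rw [e, mul_vecMulVec, vecMulVec_mul, h, smul_vecMulVec, vecMulVec_smul]
  · exact ⟨0, by rw [zero_vecMulVec, map_zero, zero_vecMulVec]⟩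

/-- a central element outside the decomposition gives everything -/
theorem cen_done (hS : SympTensor Q J₁ J₂) (hle : TLe H) {g : oG Q} (hg : Good H g) (hn : ¬ InN g.1) {v c : J → F}
    {M : (I → F) →ₗ[F] (I → F)} (he : EF J₁ J₂ g v c 0 0 M) : eo Q ≤ H := by
  obtain ⟨v', hv'⟩ := hS.h₂.exists_pair he.hv
  have hga : ∀ a b, g.1 (vecMulVec a b) = vecMulVec a b + gf J₂ b v • vecMulVec (M a) v := fun a b => by
    rw [he.apply, LinearMap.zero_apply, zero_vecMulVec, zero_vecMulVec, smul_zero, add_zero, zero_add]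
  have halt : ∀ a, gf J₁ (M a) a = 0 := fun a => by
    have h := g.2 (vecMulVec a v')
    rw [hga, map_add', Quad.map_smul', hS.pure, hS.pure, polar_smul_right, hS.polar_pure, hS.h₂.swap v v', hv',
      smul_eq_mul] at h
    rw [hS.h₁.swap a (M a)]
    linear_combination -h
  have hsa : ∀ a b, gf J₁ (M a) b = gf J₁ a (M b) := fun a b => by
    have h := halt (a + b)
    rw [map_add, gf_add_left, gf_add_right, gf_add_right, halt, halt] at h
    rw [hS.h₁.swap (M b) a]
    linear_combination h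
  by_cases hM : ∀ a, ∃ s : F, M a = s • a
  · obtain ⟨m, hm⟩ := scalar_of_forall hM
    refine absurd ?_ hn
    have : g = rE hS v m := ext_oG_pure fun a b => by
      rw [hga, rE_pure, hm, smul_vecMulVec, smul_smul, vecMulVec_add, vecMulVec_smul, mul_comm]
    rw [this]
    exact rE_inN hS v m
  push Not at hM
  obtain ⟨u, hu⟩ := hM
  have hu0 : u ≠ 0 := fun e => hu 0 (by rw [e, map_zero, smul_zero])
  have huz : gf J₁ u (M u) = 0 := hS.h₁.perp_symm (halt u)
  refine col_done hS hle hu0 he.hv huz (fun hm => by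
      obtain ⟨t, ht⟩ := Submodule.mem_span_singleton.1 hm
      exact hu t ht.symm)
    ⟨hS.pure _ _, hS.pure _ _, hS.polar_self_left _ _ huz, fun l hp hpw => ?_⟩
  suffices e : g * lE hS u (-l) = sO hp hpw * (lE hS u (-l) * g) by
    have h := hg.comm_mem hle (lE_comm hS u (-l)) (lE_inN hS u (-l))
    rw [e] at h
    simpa [mul_assoc] using h
  refine ext_oG_pure fun a b => ?_
  simp only [oG_mul_apply, lE_pure, hga, map_add, map_smul, sO_apply, polar_add_left, polar_smul_left,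
    polar_smul_right, hS.polar_pure, Quad.map_smul', hS.pure, gf_add_left, gf_smul_left, hS.h₂.alt, hsa a u, hS.h₁.alt,
    huz, add_vecMulVec, smul_vecMulVec, mul_zero, add_zero, zero_mul, smul_eq_mul, neg_zero, zero_smul]
  match_scalars <;> ring

/-- the transvection product translating along a vector orthogonal to `v` -/
noncomputable def rZ (hS : SympTensor Q J₁ J₂) (v z : J → F) : oG Q := rE hS (v + z) 1 * rE hS v (-1) * rE hS z (-1)

theorem rZ_pure (hS : SympTensor Q J₁ J₂) {v z : J → F} (hvz : gf J₂ v z = 0) (a : I → F) (b : J → F) :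
    (rZ hS v z).1 (vecMulVec a b) = vecMulVec a (b + gf J₂ b v • z + gf J₂ b z • v) := by
  rw [rZ, oG_mul_apply, oG_mul_apply, rE_pure, rE_pure, rE_pure]
  refine congrArg (vecMulVec a) ?_
  simp only [gf_add_left, gf_add_right, gf_smul_left, hS.h₂.alt, hS.h₂.perp_symm hvz, hvz]
  module

theorem rZ_comm (hS : SympTensor Q J₁ J₂) (v z : J → F) : rZ hS v z ∈ commutator (oG Q) :=
  mul_mem (mul_mem (rE_comm hS _ _) (rE_comm hS _ _)) (rE_comm hS _ _)

theorem rZ_inN (hS : SympTensor Q J₁ J₂) (v z : J → F) : InN (rZ hS v z).1 :=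
  ((rE_inN hS _ _).mul (rE_inN hS _ _)).mul (rE_inN hS _ _)

/-- an element with a skew part that is not self-adjoint gives everything -/
theorem adj_scalar_or_done (hS : SympTensor Q J₁ J₂) (hle : TLe H) {E : oG Q} (hE : E ∈ H) {v c : J → F}
    {K K' M : (I → F) →ₗ[F] (I → F)} (he : EF J₁ J₂ E v c K K' M) :
    eo Q ≤ H ∨ ∃ m : F, ∀ a, K a + K' a = m • a := by
  obtain ⟨b₀, hb1, hb2⟩ := hS.h₂.exists_dual he.hc
  replace hb1 := hb1 v (Submodule.mem_span_singleton_self v)
  set z := -b₀ with hz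
  have hvz : gf J₂ v z = 0 := by rw [hz, gf_neg_right, hb1, neg_zero]
  have hcz : gf J₂ c z = -1 := by rw [hz, gf_neg_right, hb2]
  have hzc : gf J₂ z c = 1 := by rw [hS.h₂.swap c z, hcz, neg_neg]
  set R := rZ hS v z with hR
  have hRv : ∀ y, R.1 (vecMulVec y v) = vecMulVec y v := fun y => by
    rw [hR, rZ_pure hS hvz, hS.h₂.alt, hvz, zero_smul, zero_smul, add_zero, add_zero]
  set C := E * R * E⁻¹ * R⁻¹ with hCdef
  have hCm : C ∈ H := (Good.of_mem hle hE).comm_mem hle (rZ_comm hS v z) (rZ_inN hS v z)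
  have hC : C * (R * E) = E * R := by rw [hCdef]; group
  have hbv : ∀ a w, gf J₂ w v = 0 →
      C.1 (vecMulVec a w) = vecMulVec a w + gf J₂ w c • vecMulVec ((0 : (I → F) →ₗ[F] (I → F)) a) v := fun a w hw => by
    rw [LinearMap.zero_apply, zero_vecMulVec, smul_zero, add_zero]
    have hf : gf J₂ (w + (-gf J₂ w z) • v) v = 0 := by rw [gf_add_left, gf_smul_left, hw, hS.h₂.alt]; ring
    set X := vecMulVec a (w + (-gf J₂ w z) • v) - gf J₂ w c • vecMulVec (K a) v with hX
    have hx : (R * E).1 X = vecMulVec a w := by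
      simp only [oG_mul_apply, hX, map_sub, map_add, map_smul, he.perp_apply a hf, he.fix_v hS, hRv]
      rw [hR, rZ_pure hS hvz]
      simp only [gf_add_left, gf_smul_left, hS.h₂.alt, hvz, hw, he.hvc, vecMulVec_add, vecMulVec_smul]
      module
    calc C.1 (vecMulVec a w) = (C * (R * E)).1 X := by rw [oG_mul_apply C (R * E) X, hx]
      _ = vecMulVec a w := by
        rw [hC]
        simp only [oG_mul_apply, hX, map_sub, map_smul, hR, rZ_pure hS hvz, gf_add_left, gf_smul_left, hS.h₂.alt,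
          hvz, hw, he.hvc, vecMulVec_add, vecMulVec_smul, map_add, he.apply, zero_smul, add_zero, mul_zero]
        module
  obtain ⟨K'', M'', heC⟩ := ef_of_perp hS he.hv he.hc he.hvc (K := 0) hbv
  have hK'' : K'' = 0 := heC.adj_unique hS fun a b => by
    rw [LinearMap.zero_apply, LinearMap.zero_apply, gf_zero_left, gf_zero_right]
  subst hK''
  by_cases hn : InN C.1
  swap
  · exact Or.inl (cen_done hS hle (Good.of_mem hle hCm) hn heC)
  refine Or.inr ?_
  have hvc0 : v ∉ F ∙ c := fun hm => by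
    obtain ⟨t, ht⟩ := Submodule.mem_span_singleton.1 hm
    rw [← ht, gf_smul_left, hcz] at hvz
    exact he.hv (by rw [← ht, show t = 0 by linear_combination -hvz, zero_smul])
  obtain ⟨v', hcv', hvv'⟩ := hS.h₂.exists_dual hvc0
  replace hcv' := hcv' c (Submodule.mem_span_singleton_self c)
  have hv'v : gf J₂ v' v = -1 := by rw [hS.h₂.swap v v', hvv']
  have hKK : ∀ a, M'' a = K a + K' a := fun a => by
    have h := congrArg (fun g : oG Q => g.1 (vecMulVec a v') *ᵥ (J₂ *ᵥ v')) hC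
    simp only [oG_mul_apply, hR, rZ_pure hS hvz, he.apply, heC.apply, map_add, map_smul, map_neg,
      LinearMap.zero_apply, vecMulVec_add, vecMulVec_smul, add_mulVec, smul_mulVec, vec_J, gf_add_left, gf_smul_left,
      hS.h₂.alt, hS.h₂.perp_symm hcv', hv'v, hvz, he.hvc, hzc, hcz, hvv', hS.h₂.perp_symm he.hvc, hcv',
      zero_smul, smul_zero, add_zero, zero_add, mul_zero, zero_mul, zero_mulVec, zero_vecMulVec,
      hS.h₂.perp_symm hvz] at h
    linear_combination (norm := module) -h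
  obtain ⟨w, hv'w, hvw⟩ := hS.h₂.exists_dual (S := F ∙ v') (x := v) (fun hm => by
    obtain ⟨t, ht⟩ := Submodule.mem_span_singleton.1 hm
    rw [← ht, gf_smul_left, hS.h₂.alt, mul_zero] at hvv'
    exact zero_ne_one hvv')
  replace hv'w := hv'w v' (Submodule.mem_span_singleton_self v')
  refine scalar_of_forall (f := K + K') fun a => ?_
  obtain ⟨x, hx⟩ := hn.right_only he.hv (heC.fix_v hS) a v'
  have h := congrArg (· *ᵥ (J₂ *ᵥ w)) hx
  simp only [heC.apply, LinearMap.zero_apply, zero_vecMulVec, smul_zero, add_zero, zero_add, hv'v, add_mulVec,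
    smul_mulVec, vec_J, hv'w, hvw, zero_smul, one_smul, neg_smul, Matrix.neg_mulVec] at h
  refine ⟨-gf J₂ x w, ?_⟩
  rw [LinearMap.add_apply, ← hKK a, neg_smul, ← h, neg_neg]

/-- commutation with a transvection of the first factor -/
theorem delta (hS : SympTensor Q J₁ J₂) (hle : TLe H) {E : oG Q} (hE : E ∈ H) {v c : J → F}
    {K K' M : (I → F) →ₗ[F] (I → F)} {m : F} (he : EF J₁ J₂ E v c K K' M) (hm : ∀ a, K a + K' a = m • a) (u : I → F) :
    ∃ E' ∈ H, ∃ M', EF J₁ J₂ E' v c (sk J₁ u (K u) (gf J₁ (K u) u - m)) (-sk J₁ u (K u) (gf J₁ (K u) u - m)) M' := by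
  set L := lE hS u 1 with hL
  set C := E * L * E⁻¹ * L⁻¹ with hCdef
  have hCm : C ∈ H := (Good.of_mem hle hE).comm_mem hle (lE_comm hS u 1) (lE_inN hS u 1)
  have hC : C * (L * E) = E * L := by rw [hCdef]; group
  set D := sk J₁ u (K u) (gf J₁ (K u) u - m) with hD
  have hgf : ∀ a, gf J₁ (K a) u = m * gf J₁ a u - gf J₁ a (K u) := fun a => by
    rw [← he.adj a u, eq_sub_iff_add_eq, ← gf_add_left, hm, gf_smul_left]
  have hg : ∀ a w, gf J₂ w v = 0 → C.1 (vecMulVec a w) = vecMulVec a w + gf J₂ w c • vecMulVec (D a) v :=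
    fun a w hw => by
      set X := vecMulVec (a + (-gf J₁ a u) • u) w - gf J₂ w c • vecMulVec (K (a + (-gf J₁ a u) • u)) v with hX
      have hx : (L * E).1 X = vecMulVec a w := by
        simp only [oG_mul_apply, hX, map_sub, map_add, map_smul, he.perp_apply _ hw, he.fix_v hS, hL, lE_pure,
          add_vecMulVec, smul_vecMulVec, gf_add_left, gf_smul_left, hS.h₁.alt]
        module
      calc C.1 (vecMulVec a w) = (C * (L * E)).1 X := by rw [oG_mul_apply C (L * E) X, hx]
        _ = _ := by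
          rw [hC]
          simp only [oG_mul_apply, hX, hD, sk_apply, map_sub, map_add, map_smul, hL, lE_pure, add_vecMulVec,
            smul_vecMulVec, gf_add_left, gf_smul_left, hS.h₁.alt, hgf, he.perp_apply _ hw, he.fix_v hS]
          module
  obtain ⟨K'', M'', h⟩ := ef_of_perp hS he.hv he.hc he.hvc hg
  have e : K'' = -D := h.adj_unique hS fun a b => hS.h₁.sk_adj u (K u) _ a b
  subst e
  exact ⟨C, hCm, M'', h⟩

/-- a skew element that is not scalar gives everything -/
theorem ef_done (hS : SympTensor Q J₁ J₂) (hq : Fintype.card I = 2 → 3 ≤ Nat.card F) (hle : TLe H) {E : oG Q}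
    (hE : E ∈ H) {v c : J → F} {K K' M : (I → F) →ₗ[F] (I → F)} (he : EF J₁ J₂ E v c K K' M)
    (hK : ¬ ∀ a, ∃ s : F, K a = s • a) : eo Q ≤ H := by
  rcases adj_scalar_or_done hS hle hE he with h | ⟨m, hm⟩
  · exact h
  push Not at hK
  obtain ⟨u₀, hu₀⟩ := hK
  have hu00 : u₀ ≠ 0 := fun e => hu₀ 0 (by rw [e, map_zero, smul_zero])
  have hz₀ : K u₀ ∉ F ∙ u₀ := fun h => by
    obtain ⟨t, ht⟩ := Submodule.mem_span_singleton.1 h
    exact hu₀ t ht.symm
  by_cases h2 : Fintype.card I = 2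
  swap
  · obtain ⟨E₁, hE₁, M₁, he₁⟩ := delta hS hle hE he hm u₀
    obtain ⟨b, hb1, hb2⟩ := hS.h₁.exists_dual hz₀
    replace hb1 := hb1 u₀ (Submodule.mem_span_singleton_self u₀)
    -- a vector outside the line of `u₀`
    obtain ⟨u', hu0u', hu'z, hu'⟩ : ∃ u', gf J₁ u₀ u' = 0 ∧ gf J₁ u' (K u₀) = 1 ∧ u' ∉ F ∙ u₀ := by
      have hb3 : gf J₁ (-b) (K u₀) = 1 := by rw [gf_neg_left, hS.h₁.swap (K u₀) b, hb2, neg_neg]
      by_cases hnb : -b ∈ F ∙ u₀
      swap
      · exact ⟨-b, by rw [gf_neg_right, hb1, neg_zero], hb3, hnb⟩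
      obtain ⟨w, hw0, hw⟩ := hS.h₁.exists_perp (S := Submodule.span F (Set.range ![u₀, K u₀]))
        (lt_of_le_of_lt (finrank_range_le_card _) (by rw [Fintype.card_fin]; have := hS.two; omega))
      have hw1 := hw u₀ (Submodule.subset_span ⟨0, rfl⟩)
      have hw2 := hw (K u₀) (Submodule.subset_span ⟨1, rfl⟩)
      refine ⟨-b + w, by rw [gf_add_right, gf_neg_right, hb1, hw1, neg_zero, add_zero],
        by rw [gf_add_left, hb3, hS.h₁.perp_symm hw2, add_zero], fun hm' => ?_⟩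
      have hwu : w ∈ F ∙ u₀ := (Submodule.add_mem_iff_right _ hnb).1 hm'
      obtain ⟨t, rfl⟩ := Submodule.mem_span_singleton.1 hwu
      obtain ⟨t', ht'⟩ := Submodule.mem_span_singleton.1 hnb
      rw [gf_smul_right, hS.h₁.swap u₀ (K u₀)] at hw2
      rw [← ht', gf_smul_left] at hb3
      rcases mul_eq_zero.1 hw2 with h | h
      · exact hw0 (by rw [h, zero_smul])
      · rw [neg_eq_zero] at h
        rw [h, mul_zero] at hb3
        exact zero_ne_one hb3
    have hDu : sk J₁ u₀ (K u₀) (gf J₁ (K u₀) u₀ - m) u' = u₀ := by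
      rw [sk_apply, hS.h₁.perp_symm hu0u', hu'z]
      module
    obtain ⟨E₂, hE₂, M₂, he₂⟩ := delta hS hle hE₁ he₁ (m := 0) (fun a => by simp) u'
    rw [hDu, hu0u', sub_zero] at he₂
    exact pair_done hS hle hE₂ hu' hu00 (hS.h₁.perp_symm hu0u') he₂
  by_cases hch : (2 : F) = 0
  swap
  · obtain ⟨E₁, hE₁, M₁, he₁⟩ := delta hS hle hE he hm u₀
    have hσ : gf J₁ u₀ (K u₀) ≠ 0 := fun h => by
      have hi : LinearIndependent F ![u₀, K u₀] := (LinearIndependent.pair_iff' hu00).2 fun t e => hu₀ t e.symm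
      obtain ⟨b, hb⟩ := hS.h₁.exists_pair hu00
      have hb' : b ∈ Submodule.span F (Set.range ![u₀, K u₀]) := by
        rw [hi.span_eq_top_of_card_eq_finrank (by rw [Fintype.card_fin, finrank_fintype_fun_eq_card, h2])]
        trivial
      rw [Matrix.range_cons, Matrix.range_cons, Matrix.range_empty, Set.union_empty, Set.singleton_union] at hb'
      obtain ⟨s, t, rfl⟩ := Submodule.mem_span_pair.1 hb'
      rw [gf_add_right, gf_smul_right, gf_smul_right, h, hS.h₁.alt, mul_zero, mul_zero, add_zero] at hb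
      exact zero_ne_one hb
    obtain ⟨E₂, hE₂, M₂, he₂⟩ := delta hS hle hE₁ he₁ (m := 0) (fun a => by simp) u₀
    refine uu_done hS hle hE₂ hu00 (κ := 2 * gf J₁ u₀ (K u₀)) (mul_ne_zero hch hσ) (fun a => ?_) he₂
    simp only [sk_apply, gf_add_left, gf_add_right, gf_smul_left, gf_smul_right, hS.h₁.alt]
    module
  -- characteristic two, a plane
  obtain ⟨u, hzu, hκ⟩ : ∃ u, K u ∉ F ∙ u ∧ gf J₁ (K u) u - m ≠ 0 := by
    by_cases h : gf J₁ (K u₀) u₀ - m = 0
    swap
    · exact ⟨u₀, hz₀, h⟩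
    haveI := Fintype.ofFinite F
    classical
    obtain ⟨t, ht⟩ := Finset.nonempty_iff_ne_empty.2 (fun he : (Finset.univ \ {0, 1} : Finset F) = ∅ => by
      have := Finset.card_le_card (Finset.sdiff_eq_empty_iff_subset.1 he)
      rw [Finset.card_univ, ← Nat.card_eq_fintype_card] at this
      have := this.trans Finset.card_le_two
      have := hq h2
      omega)
    simp only [Finset.mem_sdiff, Finset.mem_univ, true_and, Finset.mem_insert, Finset.mem_singleton, not_or] at ht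
    refine ⟨t • u₀, fun hm' => hz₀ ?_, fun e => ?_⟩
    · rw [map_smul] at hm'
      obtain ⟨s, hs⟩ := Submodule.mem_span_singleton.1 hm'
      exact Submodule.mem_span_singleton.2 ⟨s, smul_right_injective _ ht.1 (by
        show t • s • u₀ = t • K u₀
        rw [← hs, smul_comm])⟩
    · rw [map_smul, gf_smul_left, gf_smul_right] at e
      have hne : gf J₁ (K u₀) u₀ ≠ 0 := fun h0 => hz₀ (by
        have hi : LinearIndependent F ![u₀, K u₀] := (LinearIndependent.pair_iff' hu00).2 fun t e => hu₀ t e.symm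
        have := hS.h₁.perp_symm h0
        by_contra hcon
        obtain ⟨b, hb⟩ := hS.h₁.exists_pair hu00
        have hb' : b ∈ Submodule.span F (Set.range ![u₀, K u₀]) := by
          rw [hi.span_eq_top_of_card_eq_finrank (by rw [Fintype.card_fin, finrank_fintype_fun_eq_card, h2])]
          trivial
        rw [Matrix.range_cons, Matrix.range_cons, Matrix.range_empty, Set.union_empty, Set.singleton_union] at hb'
        obtain ⟨s, t', rfl⟩ := Submodule.mem_span_pair.1 hb'
        rw [gf_add_right, gf_smul_right, gf_smul_right, this, hS.h₁.alt, mul_zero, mul_zero, add_zero] at hb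
        exact zero_ne_one hb)
      have h4 : gf J₁ (K u₀) u₀ * ((t - 1) * (t - 1)) = 0 := by
        linear_combination e - h + (gf J₁ (K u₀) u₀ * (1 - t)) * hch
      simp only [mul_eq_zero, hne, false_or, or_self, sub_eq_zero] at h4
      exact ht.2 h4
  have hu0 : u ≠ 0 := fun e => hzu (by rw [e, map_zero]; exact zero_mem _)
  obtain ⟨E₁, hE₁, M₁, he₁⟩ := delta hS hle hE he hm u
  set σ := gf J₁ u (K u) with hσd
  have hσ : σ ≠ 0 := fun h => by
    have hi : LinearIndependent F ![u, K u] :=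
      (LinearIndependent.pair_iff' hu0).2 fun t e => hzu (Submodule.mem_span_singleton.2 ⟨t, e⟩)
    obtain ⟨b, hb⟩ := hS.h₁.exists_pair hu0
    have hb' : b ∈ Submodule.span F (Set.range ![u, K u]) := by
      rw [hi.span_eq_top_of_card_eq_finrank (by rw [Fintype.card_fin, finrank_fintype_fun_eq_card, h2])]
      trivial
    rw [Matrix.range_cons, Matrix.range_cons, Matrix.range_empty, Set.union_empty, Set.singleton_union] at hb'
    obtain ⟨s, t, rfl⟩ := Submodule.mem_span_pair.1 hb'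
    rw [gf_add_right, gf_smul_right, gf_smul_right, ← hσd, h, hS.h₁.alt, mul_zero, mul_zero, add_zero] at hb
    exact zero_ne_one hb
  have hplane : ∀ a, gf J₁ a u • K u + gf J₁ a (K u) • u = -(σ • a) := fun a => by
    have h0 : gf J₁ a u • K u - gf J₁ a (K u) • u + σ • a = 0 := hS.h₁.plane h2 hσ
      (by simp only [gf_add_left, gf_sub_left, gf_smul_left, hS.h₁.alt, hS.h₁.swap u (K u), ← hσd]; ring)
      (by simp only [gf_add_left, gf_sub_left, gf_smul_left, hS.h₁.alt, ← hσd]; ring)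
    linear_combination (norm := module) h0 + congrArg (fun r : F => r • (gf J₁ a (K u) • u)) hch
  set κ := gf J₁ (K u) u - m with hκd
  let U : (I → F) →ₗ[F] (I → F) :=
    { toFun := fun a => (κ * gf J₁ a u) • u
      map_add' := fun a b => by rw [gf_add_left, mul_add, add_smul]
      map_smul' := fun t a => by rw [gf_smul_left, RingHom.id_apply, smul_smul]; congr 1; ring }
  have hsd : gf J₂ v (σ • c) = 0 := by rw [gf_smul_right, he.hvc, mul_zero]
  have hg : ∀ a w, gf J₂ w v = 0 →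
      (E₁ * rZ hS v (σ • c)).1 (vecMulVec a w) = vecMulVec a w + gf J₂ w c • vecMulVec (U a) v := fun a w hw => by
    rw [oG_mul_apply, rZ_pure hS hsd, hw, zero_smul, add_zero, vecMulVec_add, map_add, vecMulVec_smul, map_smul,
      he₁.fix_v hS, he₁.perp_apply a hw, gf_smul_right, sk_apply, hplane]
    simp only [U, LinearMap.coe_mk, AddHom.coe_mk, add_vecMulVec, neg_vecMulVec, smul_vecMulVec]
    module
  obtain ⟨K'', M'', h⟩ := ef_of_perp hS he.hv he.hc he.hvc hg
  have eU : K'' = -U := h.adj_unique hS fun a b => by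
    show gf J₁ (-((κ * gf J₁ a u) • u)) b = gf J₁ a ((κ * gf J₁ b u) • u)
    rw [gf_neg_left, gf_smul_left, gf_smul_right, hS.h₁.swap b u]
    ring
  subst eU
  exact uu_done hS hle (mul_mem hE₁ (hle _ (rZ_comm hS v (σ • c)) (rZ_inN hS v (σ • c)))) hu0 hκ (fun a => rfl) h

/-- a linear functional as a vector -/
theorem IsSymp.exists_rep {K : Type} [Fintype K] [DecidableEq K] {G : Matrix K K F} (hG : IsSymp G)
    (φ : (K → F) →ₗ[F] F) : ∃ z, ∀ b, gf G b z = φ b := by
  obtain ⟨z, hz⟩ := hG.surj ((dotProductEquiv F K).symm φ)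
  refine ⟨z, fun b => ?_⟩
  conv_rhs => rw [← (dotProductEquiv F K).apply_symm_apply φ, ← hz]
  rw [gf, dotProduct_comm]
  rfl

/-- an element of the unipotent radical outside the decomposition gives everything -/
theorem rad_done (hS : SympTensor Q J₁ J₂) (hq : Fintype.card I = 2 → 3 ≤ Nat.card F) (hle : TLe H) {g : oG Q}
    (hg : Good H g) (hn : ¬ InN g.1) {v : J → F} (hv : v ≠ 0) (hr : Rad J₂ g v) : eo Q ≤ H := by
  obtain ⟨v', hvv'⟩ := hS.h₂.exists_pair hv
  have hv'v : gf J₂ v' v = -1 := by rw [hS.h₂.swap v v', hvv']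
  let K : (J → F) →ₗ[F] (I → F) →ₗ[F] (I → F) :=
    LinearMap.mk₂ F (fun b a => (g.1 (vecMulVec a (b + gf J₂ b v • v')) - vecMulVec a (b + gf J₂ b v • v')) *ᵥ (J₂ *ᵥ v'))
      (fun b b' a => by
        simp only [gf_add_left, add_smul, vecMulVec_add, map_add, sub_mulVec, add_mulVec]
        abel)
      (fun t b a => by
        simp only [gf_smul_left, vecMulVec_add, vecMulVec_smul, map_add, map_smul, sub_mulVec, add_mulVec, smul_mulVec]
        module)
      (fun b a a' => by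
        simp only [add_vecMulVec, map_add, sub_mulVec, add_mulVec]
        abel)
      (fun t b a => by
        simp only [smul_vecMulVec, map_smul, sub_mulVec, smul_mulVec]
        module)
  have hK : ∀ a w, gf J₂ w v = 0 → g.1 (vecMulVec a w) = vecMulVec a w + vecMulVec (K w a) v := fun a w hw => by
    obtain ⟨y, hy⟩ := hr.perp a w hw
    show _ = _ + vecMulVec ((g.1 (vecMulVec a (w + gf J₂ w v • v')) - vecMulVec a (w + gf J₂ w v • v')) *ᵥ (J₂ *ᵥ v')) v
    rw [hw, zero_smul, add_zero, hy, add_sub_cancel_left, vec_J, hvv', one_smul]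
  by_cases hsc : ∀ w, gf J₂ w v = 0 → ∀ a, ∃ s : F, K w a = s • a
  · obtain ⟨a₀, -, ha₀⟩ : ∃ a : I → F, a ≠ 0 ∧ ∃ ψ, a ⬝ᵥ ψ = 1 := by
      obtain ⟨a, ha, -⟩ := exists_orth_one (F := F) (K := I) hS.two 0
      obtain ⟨ψ, -, h⟩ := exists_dot (S := (⊥ : Submodule F (I → F))) (x := a) (by simpa using ha)
      exact ⟨a, ha, ψ, h⟩
    obtain ⟨ψ, hψ⟩ := ha₀
    let φ : (J → F) →ₗ[F] F :=
      { toFun := fun b => K b a₀ ⬝ᵥ ψ
        map_add' := fun b b' => by rw [map_add, LinearMap.add_apply, add_dotProduct]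
        map_smul' := fun t b => by rw [map_smul, LinearMap.smul_apply, smul_dotProduct]; rfl }
    obtain ⟨z, hz⟩ := hS.h₂.exists_rep φ
    have hKz : ∀ w, gf J₂ w v = 0 → ∀ a, K w a = gf J₂ w z • a := fun w hw a => by
      obtain ⟨m, hm⟩ := scalar_of_forall (f := K w) (hsc w hw)
      rw [hz, hm]
      show _ = (K w a₀ ⬝ᵥ ψ) • a
      rw [hm, smul_dotProduct, hψ, smul_eq_mul, mul_one]
    have hvz : gf J₂ v z = 0 := by
      rw [hz]
      show (g.1 (vecMulVec a₀ (v + gf J₂ v v • v')) - vecMulVec a₀ (v + gf J₂ v v • v')) *ᵥ (J₂ *ᵥ v') ⬝ᵥ ψ = 0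
      rw [hS.h₂.alt, zero_smul, add_zero, hr.fix, sub_self, zero_mulVec, zero_dotProduct]
    have hvnz : gf J₂ v (-z) = 0 := by rw [gf_neg_right, hvz, neg_zero]
    obtain ⟨w, x, hw, -, hx, -, hwx⟩ := hS.h₂.exists_perp2 hS.six v v
    have hwv : w ∉ F ∙ v := fun hm => by
      obtain ⟨t, rfl⟩ := Submodule.mem_span_singleton.1 hm
      rw [gf_smul_left, hx, mul_zero] at hwx
      exact zero_ne_one hwx
    have hg' : ∀ a b, gf J₂ b v = 0 → (g * rZ hS v (-z)).1 (vecMulVec a b) =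
        vecMulVec a b + gf J₂ b w • vecMulVec ((0 : (I → F) →ₗ[F] (I → F)) a) v := fun a b hb => by
      rw [LinearMap.zero_apply, zero_vecMulVec, smul_zero, add_zero, oG_mul_apply, rZ_pure hS hvnz, hb, zero_smul,
        add_zero, vecMulVec_add, map_add, vecMulVec_smul, map_smul, hr.fix, hK a b hb, hKz b hb, gf_neg_right,
        smul_vecMulVec]
      module
    obtain ⟨K', M', h⟩ := ef_of_perp hS hv hwv hw hg'
    have e : K' = 0 := h.adj_unique hS fun a b => by
      rw [LinearMap.zero_apply, LinearMap.zero_apply, gf_zero_left, gf_zero_right]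
    subst e
    refine cen_done hS hle (hg.mul_inN (rZ_inN hS v (-z))) (fun hN => hn ?_) h
    have := hN.mul (rZ_inN hS v (-z)).inv
    rwa [show ((g * rZ hS v (-z) : oG Q).1 * (rZ hS v (-z)).1⁻¹) = g.1 from mul_inv_cancel_right g.1 _] at this
  push Not at hsc
  obtain ⟨c, hcv, a₁, hc⟩ := hsc
  have hcF : c ∉ F ∙ v := fun hm => by
    obtain ⟨t, rfl⟩ := Submodule.mem_span_singleton.1 hm
    refine hc 0 ?_
    show (g.1 (vecMulVec a₁ (t • v + gf J₂ (t • v) v • v')) - vecMulVec a₁ (t • v + gf J₂ (t • v) v • v')) *ᵥ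
      (J₂ *ᵥ v') = _
    rw [hcv, zero_smul, add_zero, vecMulVec_smul, map_smul, hr.fix, sub_self, zero_mulVec, zero_smul]
  have hvc := hS.h₂.perp_symm hcv
  set T := rE hS c 1 with hT
  set E := g * T * g⁻¹ * T⁻¹ with hEdef
  have hEm : E ∈ H := hg.comm_mem hle (rE_comm hS c 1) (rE_inN hS c 1)
  have hE : E * (T * g) = g * T := by rw [hEdef]; group
  have hEg : ∀ a w, gf J₂ w v = 0 → E.1 (vecMulVec a w) = vecMulVec a w + gf J₂ w c • vecMulVec (K c a) v :=
    fun a w hw => by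
      have hw0 : gf J₂ (w + (-gf J₂ w c) • c) v = 0 := by rw [gf_add_left, gf_smul_left, hw, hcv]; ring
      set X := vecMulVec a (w + (-gf J₂ w c) • c) - vecMulVec (K (w + (-gf J₂ w c) • c) a) v with hX
      have hTv : ∀ y, T.1 (vecMulVec y v) = vecMulVec y v := fun y => by
        rw [hT, rE_pure, hvc, mul_zero, zero_smul, add_zero]
      have hx : (T * g).1 X = vecMulVec a w := by
        rw [oG_mul_apply, hX, map_sub, hr.fix, hK a _ hw0, add_sub_cancel_right, hT, rE_pure, gf_add_left,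
          gf_smul_left, hS.h₂.alt, mul_zero, add_zero, one_mul, add_assoc, ← add_smul, neg_add_cancel, zero_smul,
          add_zero]
      have hTX : T.1 (vecMulVec a (w + (-gf J₂ w c) • c)) = vecMulVec a w := by
        rw [hT, rE_pure, gf_add_left, gf_smul_left, hS.h₂.alt, mul_zero, add_zero, one_mul, add_assoc, ← add_smul,
          neg_add_cancel, zero_smul, add_zero]
      calc E.1 (vecMulVec a w) = (E * (T * g)).1 X := by rw [oG_mul_apply E (T * g) X, hx]
        _ = _ := by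
          rw [hE, oG_mul_apply g T X, hX, map_sub, map_sub, hTv, hTX, hr.fix, hK a w hw, map_add, map_smul,
            LinearMap.add_apply, LinearMap.smul_apply, add_vecMulVec, smul_vecMulVec]
          module
  obtain ⟨K', M', h⟩ := ef_of_perp hS hv hcF hvc hEg
  exact ef_done hS hq hle hEm h fun h' => by
    obtain ⟨s, hs⟩ := h' a₁
    exact hc s hs

theorem ext_pure' {N : Type*} [AddCommMonoid N] [Module F N] {g h : Matrix I J F →ₗ[F] N}
    (e : ∀ a b, g (vecMulVec a b) = h (vecMulVec a b)) : g = h := by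
  refine LinearMap.ext fun x => ?_
  induction x using Matrix.induction_on' with
  | h_zero => rw [map_zero, map_zero]
  | h_add p q hp hq => rw [map_add, map_add, hp, hq]
  | h_std_basis i j r =>
    rw [← mul_one r, ← smul_eq_mul, ← Matrix.smul_single, map_smul, map_smul,
      Matrix.single_eq_single_vecMulVec_single, e]

/-- a linear map respecting the forms on the pure vectors is an isometry -/
theorem map_iso (hS : SympTensor Q J₁ J₂) (k : Matrix I J F →ₗ[F] Matrix I J F) (A : (I → F) → (I → F))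
    (B : (J → F) → (J → F)) (hk : ∀ a b, k (vecMulVec a b) = vecMulVec (A a) (B b))
    (hf : ∀ a a' b b', gf J₁ (A a) (A a') * gf J₂ (B b) (B b') = gf J₁ a a' * gf J₂ b b') (x : Matrix I J F) :
    Q (k x) = Q x := by
  have hp : ∀ x y, polar Q (k x) (k y) = polar Q x y := fun x y => by
    have e1 : ∀ (a : I → F) (b : J → F), ((polarBilin Q).compl₁₂ k k).flip (vecMulVec a b) = (polarBilin Q).flip (vecMulVec a b) :=
      fun a b => ext_pure' fun c d => by
        show polar Q (k (vecMulVec c d)) (k (vecMulVec a b)) = polar Q (vecMulVec c d) (vecMulVec a b)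
        rw [hk, hk, hS.polar_pure, hS.polar_pure, hf]
    exact LinearMap.congr_fun (LinearMap.congr_fun (ext_pure' e1) y) x
  induction x using Matrix.induction_on' with
  | h_zero => rw [map_zero]
  | h_add p q hp' hq' => rw [map_add, map_add', map_add', hp', hq', hp]
  | h_std_basis i j r =>
    rw [← mul_one r, ← smul_eq_mul, ← Matrix.smul_single, map_smul, Matrix.single_eq_single_vecMulVec_single, hk,
      Quad.map_smul', Quad.map_smul', hS.pure, hS.pure]

/-- in an overgroup an element preserving a pure subspace preserves the decomposition, or everything is there -/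
theorem stab_done (hS : SympTensor Q J₁ J₂) (hq : Fintype.card I = 2 → 3 ≤ Nat.card F) (hle : TLe H) {h : oG Q}
    (hh : h ∈ H) (hn : ¬ InN h.1) {v : J → F} (hv : v ≠ 0) (hst : ∀ a, ∃ y, h.1 (vecMulVec a v) = vecMulVec y v) :
    eo Q ≤ H := by
  by_contra hne
  obtain ⟨v', hvv'⟩ := hS.h₂.exists_pair hv
  let α : (I → F) →ₗ[F] (I → F) := rcol J₂ v' ∘ₗ h.1.toLinearMap ∘ₗ vR v
  have hα : ∀ a, h.1 (vecMulVec a v) = vecMulVec (α a) v := fun a => by
    obtain ⟨y, hy⟩ := hst a
    show _ = vecMulVec (h.1 (vecMulVec a v) *ᵥ (J₂ *ᵥ v')) v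
    rw [hy, vec_J, hvv', one_smul]
  have hαi : Function.Injective α := fun a b e => vecMulVec_left_inj hv (h.1.injective (by rw [hα, hα, e]))
  obtain ⟨αe, hαe⟩ : ∃ e : (I → F) ≃ₗ[F] (I → F), ∀ a, e a = α a :=
    ⟨LinearEquiv.ofBijective α ⟨hαi, LinearMap.injective_iff_surjective.1 hαi⟩, fun a => rfl⟩
  have hinv : ∀ a, (h⁻¹).1 (vecMulVec a v) = vecMulVec (αe.symm a) v := fun a => by
    apply h.1.injective
    rw [oG_apply_inv, hα, ← hαe, αe.apply_symm_apply]
  -- the second factor of the image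
  have hperpv : ∀ a w, gf J₂ w v = 0 → h.1 (vecMulVec a w) *ᵥ (J₂ *ᵥ v) = 0 := fun a w hw => by
    by_contra hx
    obtain ⟨b, hb⟩ := hS.h₁.exists_pair hx
    obtain ⟨b', rfl⟩ : ∃ b', α b' = b := ⟨αe.symm b, by rw [← hαe, αe.apply_symm_apply]⟩
    rw [← hS.polar_left, ← hα, polar_oG, hS.polar_pure, hw, mul_zero] at hb
    exact zero_ne_one hb
  have hB : ∀ z, gf J₂ v z = 0 → ∀ w, gf J₂ w v = 0 →
      ∃ s : F, ∀ a, h.1 (vecMulVec a w) *ᵥ (J₂ *ᵥ z) = s • α a := fun z hz w hw => by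
    set R := rZ hS v z with hR
    set C := h⁻¹ * R * h with hCdef
    have hCm : C ∈ H := mul_mem (mul_mem (inv_mem hh) (hle _ (rZ_comm hS v z) (rZ_inN hS v z))) hh
    have hRx : ∀ x : Matrix I J F, x *ᵥ (J₂ *ᵥ v) = 0 → R.1 x = x + vecMulVec (x *ᵥ (J₂ *ᵥ z)) v := fun x hx => by
      have e : R.1.toLinearMap = LinearMap.id + vR z ∘ₗ rcol J₂ v + vR v ∘ₗ rcol J₂ z := ext_pure fun a b => by
        show R.1 (vecMulVec a b) = vecMulVec a b + vecMulVec (vecMulVec a b *ᵥ (J₂ *ᵥ v)) z +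
          vecMulVec (vecMulVec a b *ᵥ (J₂ *ᵥ z)) v
        rw [hR, rZ_pure hS hz, vec_J, vec_J, smul_vecMulVec, smul_vecMulVec, vecMulVec_add, vecMulVec_add,
          vecMulVec_smul, vecMulVec_smul]
      have := LinearMap.congr_fun e x
      rw [LinearEquiv.coe_coe] at this
      rw [this]
      show x + vecMulVec (x *ᵥ (J₂ *ᵥ v)) z + vecMulVec (x *ᵥ (J₂ *ᵥ z)) v = _
      rw [hx, zero_vecMulVec, add_zero]
    have hCw : ∀ a w, gf J₂ w v = 0 → C.1 (vecMulVec a w) =
        vecMulVec a w + vecMulVec (αe.symm (h.1 (vecMulVec a w) *ᵥ (J₂ *ᵥ z))) v := fun a w hw => by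
      rw [hCdef, oG_mul_apply, oG_mul_apply, hRx _ (hperpv a w hw), map_add, hinv,
        show (h⁻¹).1 (h.1 (vecMulVec a w)) = vecMulVec a w from h.1.symm_apply_apply _]
    have hCf : ∀ a, C.1 (vecMulVec a v) = vecMulVec a v := fun a => by
      rw [hCw a v (hS.h₂.alt v), hα, vec_J, hz, zero_smul, map_zero, zero_vecMulVec, add_zero]
    have hCN : InN C.1 := by
      by_contra hN
      exact hne (rad_done hS hq hle (Good.of_mem hle hCm) hN hv ⟨hCf, fun a w hw => ⟨_, hCw a w hw⟩⟩)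
    let L : (I → F) →ₗ[F] (I → F) := αe.symm.toLinearMap ∘ₗ rcol J₂ z ∘ₗ h.1.toLinearMap ∘ₗ vR w
    by_cases hwv : w ∈ F ∙ v
    · obtain ⟨t, rfl⟩ := Submodule.mem_span_singleton.1 hwv
      exact ⟨0, fun a => by rw [vecMulVec_smul, map_smul, hα, smul_mulVec, vec_J, hz, zero_smul, smul_zero]⟩
    obtain ⟨s, hs⟩ := scalar_of_forall (f := L) fun a => by
      obtain ⟨x, hx⟩ := hCN.right_only hv hCf a w
      obtain ⟨y, hy1, hy2⟩ := hS.h₂.exists_dual (S := F ∙ w) (x := v) (fun hm => hwv (by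
        obtain ⟨t, ht⟩ := Submodule.mem_span_singleton.1 hm
        exact Submodule.mem_span_singleton.2 ⟨t⁻¹, by rw [← ht, inv_smul_smul₀ (fun e => hv (by rw [← ht, e, zero_smul]))]⟩))
      have h1 := congrArg (· *ᵥ (J₂ *ᵥ y)) hx
      simp only [hCw a w hw, add_mulVec, vec_J, hy1 w (Submodule.mem_span_singleton_self w), hy2, zero_smul, one_smul,
        zero_add] at h1
      exact ⟨_, h1⟩
    refine ⟨s, fun a => ?_⟩
    have := congrArg αe (hs a)
    rw [map_smul] at this
    rw [← hαe]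
    refine Eq.trans ?_ this
    show _ = αe (αe.symm (h.1 (vecMulVec a w) *ᵥ (J₂ *ᵥ z)))
    rw [αe.apply_symm_apply]
  obtain ⟨a₀, a₁, ha01⟩ : ∃ a a' : I → F, gf J₁ a a' = 1 := by
    obtain ⟨a, ha, -⟩ := exists_orth_one (F := F) (K := I) hS.two 0
    exact ⟨a, hS.h₁.exists_pair ha⟩
  have hα0 : α a₀ ≠ 0 := fun e => by
    rw [hαi (e.trans (map_zero α).symm), gf_zero_left] at ha01
    exact zero_ne_one ha01
  obtain ⟨ψ, -, hψ⟩ := exists_dot (S := (⊥ : Submodule F (I → F))) (x := α a₀) (by simpa using hα0)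
  let β : (J → F) →ₗ[F] (J → F) :=
    { toFun := fun w => ψ ᵥ* h.1 (vecMulVec a₀ w)
      map_add' := fun b c => by rw [vecMulVec_add, map_add, vecMul_add]
      map_smul' := fun t b => by rw [vecMulVec_smul, map_smul, vecMul_smul]; rfl }
  have hβJ : ∀ w y, gf J₂ (β w) y = ψ ⬝ᵥ (h.1 (vecMulVec a₀ w) *ᵥ (J₂ *ᵥ y)) := fun w y => (dotProduct_mulVec _ _ _).symm
  have hβv : β v = v := by
    show ψ ᵥ* h.1 (vecMulVec a₀ v) = v
    rw [hα, vecMul_vecMulVec, dotProduct_comm, hψ, one_smul]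
  have hβp : ∀ w, gf J₂ w v = 0 → gf J₂ (β w) v = 0 := fun w hw => by rw [hβJ, hperpv a₀ w hw, dotProduct_zero]
  have himg : ∀ a w, gf J₂ w v = 0 → ∃ y, h.1 (vecMulVec a w) = vecMulVec (α a) (β w) + vecMulVec y v := fun a w hw => by
    refine ⟨(h.1 (vecMulVec a w) - vecMulVec (α a) (β w)) *ᵥ (J₂ *ᵥ v'), ?_⟩
    rw [← eq_vec_of_perp hS hvv' fun z hz => ?_, add_sub_cancel]
    obtain ⟨s, hs⟩ := hB z hz w hw
    rw [sub_mulVec, hs, vec_J, hβJ, hs, dotProduct_smul, dotProduct_comm, hψ, smul_eq_mul, mul_one, sub_self]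
  have hpβ : ∀ a a' w w', gf J₂ w v = 0 → gf J₂ w' v = 0 →
      gf J₁ (α a) (α a') * gf J₂ (β w) (β w') = gf J₁ a a' * gf J₂ w w' := fun a a' w w' hw hw' => by
    obtain ⟨y, hy⟩ := himg a w hw
    obtain ⟨y', hy'⟩ := himg a' w' hw'
    have := polar_oG h (vecMulVec a w) (vecMulVec a' w')
    rw [hy, hy', polar_add_left, polar_add_right, polar_add_right, hS.polar_pure, hS.polar_pure, hS.polar_pure,
      hS.polar_pure, hS.polar_pure, hS.h₂.alt, hβp w hw, hS.h₂.perp_symm (hβp w' hw'), mul_zero, mul_zero,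
      mul_zero, add_zero, add_zero, add_zero] at this
    exact this
  -- the multipliers
  obtain ⟨w₀, w₀', h01, -, h02, -, h03⟩ := hS.h₂.exists_perp2 hS.six v v
  set μ := gf J₂ (β w₀) (β w₀') with hμd
  have hαf : ∀ a a', gf J₁ (α a) (α a') * μ = gf J₁ a a' := fun a a' => by
    rw [hμd, hpβ a a' w₀ w₀' (hS.h₂.perp_symm h01) (hS.h₂.perp_symm h02), h03, mul_one]
  have hμ : μ ≠ 0 := fun e => by
    have := hαf a₀ a₁
    rw [e, mul_zero, ha01] at this
    exact zero_ne_one this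
  have hβf : ∀ w w', gf J₂ w v = 0 → gf J₂ w' v = 0 → gf J₂ (β w) (β w') = μ * gf J₂ w w' := fun w w' hw hw' => by
    have h1 := hpβ a₀ a₁ w w' hw hw'
    have h2 := hαf a₀ a₁
    rw [ha01] at h1 h2
    linear_combination μ * h1 - gf J₂ (β w) (β w') * h2
  -- the extension
  let W : Submodule F (J → F) := LinearMap.ker ((gB J₂).flip v)
  have hW : ∀ w, w ∈ W ↔ gf J₂ w v = 0 := fun w => Iff.rfl
  have hinj : LinearMap.ker (β ∘ₗ W.subtype) = ⊥ := LinearMap.ker_eq_bot'.2 fun w hw0 => Subtype.ext (by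
    have hw : gf J₂ (w : J → F) v = 0 := (hW _).1 w.2
    have hp : ∀ y, gf J₂ y v = 0 → gf J₂ (w : J → F) y = 0 := fun y hy => by
      have := hβf _ y hw hy
      rw [show β (w : J → F) = 0 from hw0, gf_zero_left] at this
      exact (mul_eq_zero.1 this.symm).resolve_left hμ
    have hmem : (w : J → F) ∈ F ∙ v := hS.h₂.mem_span fun b hb =>
      hp b (hS.h₂.perp_symm (hb v (Submodule.mem_span_singleton_self v)))
    obtain ⟨t, ht⟩ := Submodule.mem_span_singleton.1 hmem
    have hw0' : β (w : J → F) = 0 := hw0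
    rw [← ht, map_smul, hβv] at hw0'
    rw [← ht]
    exact hw0')
  obtain ⟨g₁, hg₁⟩ := (β ∘ₗ W.subtype).exists_leftInverse_of_injective hinj
  obtain ⟨t, ht⟩ := hS.h₂.exists_rep (μ • (((gB J₂).flip v').comp (W.subtype.comp g₁)))
  have ht' : ∀ w, gf J₂ w v = 0 → gf J₂ (β w) t = μ * gf J₂ w v' := fun w hw => by
    rw [ht]
    show μ * gf J₂ ((g₁ ((β ∘ₗ W.subtype) ⟨w, (hW w).2 hw⟩) : W) : J → F) v' = _
    rw [← LinearMap.comp_apply g₁, hg₁]
    rfl
  let B : (J → F) →ₗ[F] (J → F) :=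
    { toFun := fun b => β (b + gf J₂ b v • v') + (-gf J₂ b v) • t
      map_add' := fun b c => by simp only [gf_add_left, map_add, map_smul, neg_add_rev]; module
      map_smul' := fun s b => by simp only [gf_smul_left, map_add, map_smul, RingHom.id_apply]; module }
  have hπ : ∀ b, gf J₂ (b + gf J₂ b v • v') v = 0 := fun b => by
    rw [gf_add_left, gf_smul_left, hS.h₂.swap v v', hvv']; ring
  have hBw : ∀ w, gf J₂ w v = 0 → B w = β w := fun w hw => by
    show β (w + gf J₂ w v • v') + (-gf J₂ w v) • t = _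
    rw [hw, neg_zero, zero_smul, zero_smul, add_zero, add_zero]
  have hBf : ∀ b b', gf J₂ (B b) (B b') = μ * gf J₂ b b' := fun b b' => by
    have e1 := hβf _ _ (hπ b) (hπ b')
    have e2 := ht' _ (hπ b)
    have e3 := ht' _ (hπ b')
    show gf J₂ (β (b + gf J₂ b v • v') + (-gf J₂ b v) • t) (β (b' + gf J₂ b' v • v') + (-gf J₂ b' v) • t) = _
    rw [gf_add_left, gf_add_right, gf_add_right, gf_smul_left, gf_smul_left, gf_smul_right, gf_smul_right,
      hS.h₂.alt, hS.h₂.swap (β _) t, e1, e2, e3]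
    simp only [gf_add_left, gf_add_right, gf_smul_left, gf_smul_right, hS.h₂.alt, hS.h₂.swap b' v']
    ring
  have hBi : Function.Injective B := (injective_iff_map_eq_zero B).2 fun b hb => hS.h₂.nd b (by
    by_contra hne'
    obtain ⟨φ, -, hφ⟩ := exists_dot (S := (⊥ : Submodule F (J → F))) (x := J₂ *ᵥ b) (by simpa using hne')
    have h1 := hBf φ b
    rw [hb, gf_zero_right, gf, dotProduct_comm φ, hφ, mul_one] at h1
    exact hμ h1.symm)
  obtain ⟨Be, hBe⟩ : ∃ e : (J → F) ≃ₗ[F] (J → F), ∀ a, e a = B a :=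
    ⟨LinearEquiv.ofBijective B ⟨hBi, LinearMap.injective_iff_surjective.1 hBi⟩, fun a => rfl⟩
  let Am : GL I F := Matrix.GeneralLinearGroup.toLin.symm
    (LinearMap.GeneralLinearGroup.ofLinearEquiv αe)
  let Bm : GL J F := Matrix.GeneralLinearGroup.toLin.symm
    (LinearMap.GeneralLinearGroup.ofLinearEquiv Be)
  have hAm : ∀ a, (Am : Matrix I I F) *ᵥ a = α a := fun a => by
    rw [← hαe]; exact congrFun (congrArg DFunLike.coe (Matrix.toLin'_toMatrix' αe.toLinearMap)) a
  have hBm : ∀ b, b ᵥ* ((Bm : Matrix J J F))ᵀ = B b := fun b => by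
    rw [vecMul_transpose, ← hBe]; exact congrFun (congrArg DFunLike.coe (Matrix.toLin'_toMatrix' Be.toLinearMap)) b
  let Bt : GL J F := ⟨(Bm : Matrix J J F)ᵀ, ((Bm⁻¹ : GL J F) : Matrix J J F)ᵀ,
    by rw [← Matrix.transpose_mul, ← Units.val_mul, inv_mul_cancel, Units.val_one, Matrix.transpose_one],
    by rw [← Matrix.transpose_mul, ← Units.val_mul, mul_inv_cancel, Units.val_one, Matrix.transpose_one]⟩
  let k₀ : Matrix I J F ≃ₗ[F] Matrix I J F :=
    LinearEquiv.ofLinearMap
      { toFun := fun x => (Am : Matrix I I F) * x * (Bt : Matrix J J F)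
        map_add' := fun x y => by rw [Matrix.mul_add, Matrix.add_mul]
        map_smul' := fun s x => by rw [Matrix.mul_smul, Matrix.smul_mul]; rfl }
      { toFun := fun x => ((Am⁻¹ : GL I F) : Matrix I I F) * x * ((Bt⁻¹ : GL J F) : Matrix J J F)
        map_add' := fun x y => by rw [Matrix.mul_add, Matrix.add_mul]
        map_smul' := fun s x => by rw [Matrix.mul_smul, Matrix.smul_mul]; rfl }
      (LinearMap.ext fun x => by
        show (Am : Matrix I I F) * (((Am⁻¹ : GL I F) : Matrix I I F) * x * ((Bt⁻¹ : GL J F) : Matrix J J F)) *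
          (Bt : Matrix J J F) = x
        rw [Matrix.mul_assoc _ x, ← Matrix.mul_assoc (Am : Matrix I I F), ← Units.val_mul, mul_inv_cancel, Units.val_one,
          Matrix.one_mul, Matrix.mul_assoc, ← Units.val_mul, inv_mul_cancel, Units.val_one, Matrix.mul_one])
      (LinearMap.ext fun x => by
        show ((Am⁻¹ : GL I F) : Matrix I I F) * ((Am : Matrix I I F) * x * (Bt : Matrix J J F)) *
          ((Bt⁻¹ : GL J F) : Matrix J J F) = x
        rw [Matrix.mul_assoc _ x, ← Matrix.mul_assoc ((Am⁻¹ : GL I F) : Matrix I I F), ← Units.val_mul, inv_mul_cancel,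
          Units.val_one, Matrix.one_mul, Matrix.mul_assoc, ← Units.val_mul, mul_inv_cancel, Units.val_one, Matrix.mul_one])
  have hkp : ∀ a b, k₀ (vecMulVec a b) = vecMulVec (α a) (B b) := fun a b => by
    show (Am : Matrix I I F) * vecMulVec a b * (Bm : Matrix J J F)ᵀ = _
    rw [mul_vecMulVec, vecMulVec_mul, hAm, hBm]
  let k : oG Q := ⟨k₀, map_iso hS k₀.toLinearMap α B hkp fun a a' b b' => by
    rw [hBf, ← hαf a a']; ring⟩
  have hkN : InN k.1 := ⟨Am, Bt, fun x => rfl⟩
  have hE : ∀ a w, gf J₂ w v = 0 → ∃ y, (h⁻¹ * k).1 (vecMulVec a w) = vecMulVec a w + vecMulVec y v := fun a w hw => by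
    obtain ⟨y, hy⟩ := himg a w hw
    refine ⟨-αe.symm y, h.1.injective ?_⟩
    rw [oG_mul_apply, oG_apply_inv, show k.1 = k₀ from rfl, hkp, hBw w hw, map_add, hy, hα, ← hαe (-αe.symm y),
      map_neg, αe.apply_symm_apply, neg_vecMulVec, add_neg_cancel_right]
  refine hne (rad_done hS hq hle (g := h⁻¹ * k) ((Good.of_mem hle (inv_mem hh)).mul_inN hkN) (fun hN => hn ?_) hv
    ⟨fun a => h.1.injective ?_, hE⟩)
  · have := (hN.mul hkN.inv).inv
    rwa [show ((h⁻¹ * k : oG Q).1 * k.1⁻¹)⁻¹ = h.1 from by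
      show ((h.1⁻¹ * k.1) * k.1⁻¹)⁻¹ = h.1
      group] at this
  · rw [oG_mul_apply, oG_apply_inv, show k.1 = k₀ from rfl, hkp, hBw v (hS.h₂.alt v), hβv, hα]

end Cfsg.Agent.ClassicalMax.Tensor
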